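import Groth.Agent.Lib.ModConstr.Chain
import Groth.Agent.Lib.ARSys.AdicCat
import Mathlib.CategoryTheory.Limits.Preserves.Shapes.Biproducts

/-!
# `I`-adic systems of constructible sheaves of modules; exact linear functors and quotient maps
-/

set_option autoImplicit false
set_option linter.style.haveILetI false
set_option linter.unusedSectionVars false

universe u w v v' u₁ u₂

open CategoryTheory CategoryTheory.Limits Opposite

noncomputable section

namespace GrothLib.ModConstr

open _root_.ARSys
open GrothLib.ARSys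

attribute [local instance] Abelian.hasFiniteBiproducts

section Functor

variable {C : Type u₁} [Category.{v} C] [Abelian C] {D : Type u₂} [Category.{v'} D] [Abelian D]
  {A : Type w} [CommRing A] [Linear A C] [Linear A D] (G : C ⥤ D) [G.Additive] [G.Linear A]

theorem killedBy_map {I : Ideal A} {X : C} (h : KilledBy I X) : KilledBy I (G.obj X) := fun a ha => by
  rw [← G.map_id, ← Functor.map_smul, h a ha, Functor.map_zero]

/-- A morphism killed by generators of an ideal is killed by the ideal. -/
theorem homKilledBy_span {X Y : C} (φ : X ⟶ Y) {n : ℕ} (s : Fin n → A) (h : ∀ i, s i • φ = 0) :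
    HomKilledBy (Ideal.span (Set.range s)) φ := fun a ha => by
  refine Submodule.span_induction (p := fun x _ => x • φ = 0) (fun x hx => by obtain ⟨i, rfl⟩ := hx; exact h i) (zero_smul A φ)
    (fun x y _ _ hx hy => by rw [add_smul, hx, hy, add_zero])
    (fun c x _ hx => by rw [smul_eq_mul, mul_smul, hx, smul_zero]) ha

/-- A quotient map modulo a finitely generated ideal is a cokernel. -/
theorem isQuot_iff_cokernel {I : Ideal A} {m : ℕ} (s : Fin m → A) (hs : Ideal.span (Set.range s) = I) {X Q : C}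
    (p : X ⟶ Q) :
    IsQuot I p ↔ ∃ w : biproduct.desc (fun a : Fin m => (s a • 𝟙 X : X ⟶ X)) ≫ p = 0,
      Nonempty (IsColimit (CokernelCofork.ofπ p w)) := by
  classical
  constructor
  · intro h
    have w : biproduct.desc (fun a : Fin m => (s a • 𝟙 X : X ⟶ X)) ≫ p = 0 := by
      ext a
      simp only [biproduct.ι_desc_assoc, Linear.smul_comp, Category.id_comp, comp_zero]
      exact homKilledBy_of_tgt h.1 p _ (hs ▸ Ideal.subset_span ⟨a, rfl⟩)
    have key : ∀ {Z : C} (g : X ⟶ Z), biproduct.desc (fun a : Fin m => (s a • 𝟙 X : X ⟶ X)) ≫ g = 0 →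
        HomKilledBy I g := fun g hg => hs ▸ homKilledBy_span g s fun a => by
      have := congrArg (fun t => biproduct.ι _ a ≫ t) hg
      simpa using this
    exact ⟨w, ⟨CokernelCofork.IsColimit.ofπ p w (fun g hg => (h.2 _ g (key g hg)).exists.choose)
      (fun g hg => (h.2 _ g (key g hg)).exists.choose_spec)
      (fun g hg m hm => (h.2 _ g (key g hg)).unique hm (h.2 _ g (key g hg)).exists.choose_spec)⟩⟩
  · rintro ⟨w, ⟨hc⟩⟩
    haveI : Epi p := Cofork.IsColimit.epi hc
    refine ⟨?_, fun Y φ hφ => ?_⟩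
    · have : HomKilledBy I p := hs ▸ homKilledBy_span p s fun a => by
        have := congrArg (fun t => biproduct.ι _ a ≫ t) w
        simpa using this
      exact fun a ha => by rw [← cancel_epi p, comp_zero, Linear.comp_smul, Category.comp_id, this a ha]
    · have h0 : biproduct.desc (fun a : Fin m => (s a • 𝟙 X : X ⟶ X)) ≫ φ = 0 := by
        ext a
        simp only [biproduct.ι_desc_assoc, Linear.smul_comp, Category.id_comp, comp_zero]
        exact hφ _ (hs ▸ Ideal.subset_span ⟨a, rfl⟩)
      obtain ⟨l, hl⟩ := CokernelCofork.IsColimit.desc' hc φ h0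
      exact ⟨l, hl, fun y hy => (cancel_epi p).1 (hy.trans hl.symm)⟩

theorem isQuot_map [PreservesFiniteColimits G] {I : Ideal A} (hI : I.FG) {X Q : C} {p : X ⟶ Q}
    (h : IsQuot I p) : IsQuot I (G.map p) := by
  classical
  obtain ⟨m, s, hs⟩ := Submodule.fg_iff_exists_fin_generating_family.1 hI
  haveI : PreservesBiproduct (fun _ : Fin m => X) G := preservesBiproduct_of_preservesCoproduct G
  obtain ⟨w, ⟨hc⟩⟩ := (isQuot_iff_cokernel s hs p).1 h
  refine (isQuot_iff_cokernel s hs (G.map p)).2 ?_
  have e : (G.mapBiproduct (fun _ : Fin m => X)).inv ≫ G.map (biproduct.desc fun a : Fin m => (s a • 𝟙 X : X ⟶ X)) =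
      biproduct.desc (fun a : Fin m => (s a • 𝟙 (G.obj X) : G.obj X ⟶ G.obj X)) := by
    ext a
    rw [biproduct.ι_desc, Functor.mapBiproduct_inv, biproduct.ι_desc_assoc, ← G.map_comp, biproduct.ι_desc,
      Functor.map_smul, G.map_id]
  have w' : biproduct.desc (fun a : Fin m => (s a • 𝟙 (G.obj X) : G.obj X ⟶ G.obj X)) ≫ G.map p = 0 := by
    rw [← e, Category.assoc, ← G.map_comp, w, G.map_zero, comp_zero]
  exact ⟨w', ⟨isCokernelEpiComp (CokernelCofork.mapIsColimit _ hc G) (G.mapBiproduct (fun _ : Fin m => X)).inv e.symm⟩⟩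

/-- The image of an `I`-adic system. -/
theorem isAdic_map [PreservesFiniteColimits G] {J : Ideal A} (hJ : J.FG) {X : PS C} (h : IsAdic J X) :
    IsAdic J (X ⋙ G) :=
  ⟨fun n => killedBy_map G (h.1 n), fun n m hnm => isQuot_map G (Ideal.FG.pow hJ) (h.2 n m hnm)⟩

/-- The image of an isomorphism up to translation. -/
theorem arIso_map {X Y : PS C} {u : X ⟶ Y} (hu : IsARIso u) :
    IsARIso (Functor.whiskerRight u G) := by
  obtain ⟨i⟩ := exists_arInv hu
  exact ARInv.arIso (u := Functor.whiskerRight u G)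
    { r := i.r
      v := fun h => G.map (i.v h)
      v_u := fun h => (G.map_comp _ _).symm.trans (congrArg G.map (i.v_u h))
      u_v := fun h => (G.map_comp _ _).symm.trans (congrArg G.map (i.u_v h))
      tr_v := fun h hb => (G.map_comp _ _).symm.trans (congrArg G.map (i.tr_v h hb))
      v_tr := fun h ha => (G.map_comp _ _).symm.trans (congrArg G.map (i.v_tr h ha)) }

end Functor

section Et

open AlgebraicGeometry

variable {X : Scheme.{u}} {Λ : Type (u + 1)} [CommRing Λ] [IsNoetherianRing Λ] {I : Ideal Λ}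

/-- An adic system up to translation equal to a constructible one is constructible. -/
theorem constr_of_arIso [IsLocallyNoetherian X] {Y Z : PS (EtModW.Mod Λ X)} {u : Y ⟶ Z} (hu : IsARIso u)
    (hY : IsStrict Y) (hZ : ∀ n : ℕ, EtModW.IsConstructible Λ (Z.obj (op n))) (n : ℕ) :
    EtModW.IsConstructible Λ (Y.obj (op n)) := by
  obtain ⟨i⟩ := exists_arInv hu
  haveI := epi_v i hY (le_refl (n + i.r))
  exact isConstructible_quot (i.v (le_refl (n + i.r))) (hZ _)

theorem adicNoeth_of_constr [IsNoetherian X] {Y : PS (EtModW.Mod Λ X)} (hY : IsAdic I Y)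
    (hc : ∀ n : ℕ, EtModW.IsConstructible Λ (Y.obj (op n))) : IsAdicNoeth I Y :=
  ⟨hY, fun n => isNoetherianObject (Y.obj (op n)) (hc n)⟩

/-- A chain of systems adic up to translation inside a constructible adic system is stationary up to translation. -/
theorem exists_chain_arIso [IsNoetherian X] {F : PS (EtModW.Mod Λ X)} (hF : IsAdic I F)
    (hFc : ∀ n : ℕ, EtModW.IsConstructible Λ (F.obj (op n))) (Z : ℕ →o Subobject F)
    (hZ : ∀ k, TermKilled I (Z k : PS (EtModW.Mod Λ X)) ∧
      ∃ (Y : PS (EtModW.Mod Λ X)) (v : Y ⟶ (Z k : PS (EtModW.Mod Λ X))), IsAdic I Y ∧ IsARIso v) :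
    ∃ k₀ : ℕ, ∀ k : ℕ, k₀ ≤ k →
      IsARIso (Subobject.ofLE (Z k) (Z (k + 1)) (Z.monotone (Nat.le_succ k))) := by
  have hJ : I.FG := IsNoetherian.noetherian I
  choose hk Y v hY hv using hZ
  let φ : ∀ k, Y k ⟶ F := fun k => v k ≫ (Z k).arrow
  let S : ℕ → Subobject F := fun k => imageSubobject (φ k)
  have hmono : Monotone S := fun i j hij => by
    obtain ⟨l, hl, -⟩ := existsUnique_lift (hv j) (hY i) (hY j).1 (v i ≫ Subobject.ofLE _ _ (Z.monotone hij))
    have hl' : l ≫ v j = v i ≫ Subobject.ofLE _ _ (Z.monotone hij) := hl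
    have e : φ i = l ≫ φ j := by
      simp only [φ]
      rw [← Category.assoc, hl', Category.assoc, Subobject.ofLE_arrow]
    show imageSubobject _ ≤ imageSubobject _
    rw [e]
    exact imageSubobject_comp_le _ _
  obtain ⟨k₀, hk₀⟩ := strict_subobjects_stationary hJ hF (isNoetherianObject _ (hFc 0)) ⟨S, hmono⟩
    fun k => isStrict_of_epi (factorThruImageSubobject (φ k)) (isStrict_of_isAdic (hY k))
  have hle : ∀ k, S k ≤ Z k := fun k => imageSubobject_le _ (v k) rfl
  have hS : ∀ k, IsARIso (Subobject.ofLE _ _ (hle k)) := fun k => by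
    have e : factorThruImageSubobject (φ k) ≫ Subobject.ofLE _ _ (hle k) = v k := by
      rw [← cancel_mono (Z k).arrow, Category.assoc, Subobject.ofLE_arrow]
      exact imageSubobject_arrow_comp (φ k)
    refine arIso_of_comp_left (factorThruImageSubobject (φ k)) _ ?_ (e.symm ▸ hv k)
    refine arIso_of_epi _ ?_
    have h0 : kernel.ι (factorThruImageSubobject (φ k)) ≫ v k = 0 := by
      rw [← e, kernel.condition_assoc, zero_comp]
    haveI : Mono (kernel.lift _ _ h0) := mono_of_mono_fac (kernel.lift_ι _ _ h0)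
    exact null_of_mono (kernel.lift _ _ h0) (hv k).1
  refine ⟨k₀, fun k hk' => ?_⟩
  have heq : S k = S (k + 1) := (hk₀ k hk').trans (hk₀ (k + 1) (by omega)).symm
  refine arIso_of_comp_left (Subobject.ofLE _ _ (hle k)) _ (hS k) ?_
  rw [Subobject.ofLE_comp_ofLE]
  haveI : IsIso (Subobject.ofLE _ _ heq.le) :=
    ⟨Subobject.ofLE _ _ heq.ge, by simp, by simp⟩
  have := arIso_comp (arIso_of_isIso (Subobject.ofLE _ _ heq.le)) (hS (k + 1))
  rwa [Subobject.ofLE_comp_ofLE] at this

end Et

end GrothLib.ModConstr
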