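import Groth.Agent.Lib.ModConstr.Chain
import Groth.Agent.Lib.TrivMod.Special
import Mathlib.RingTheory.Artinian.Module
import Mathlib.RingTheory.Nakayama

/-!
# A constructible sheaf of modules is locally constant on an open near each generic point
-/

set_option autoImplicit false
set_option linter.style.haveILetI false
set_option linter.unusedSectionVars false
set_option backward.isDefEq.respectTransparency.types false

universe u w v

open CategoryTheory CategoryTheory.Limits AlgebraicGeometry Opposite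

noncomputable section

namespace GrothLib.ModConstr

open GrothLib.TrivEt GrothLib.TrivMod GrothLib.EtSite

/-- A map between isomorphic finite modules which reflects `J`-multiples for all ideals is onto. -/
theorem surjective_of_reflects_smul {R : Type w} [CommRing R] {M N : Type v} [AddCommGroup M] [Module R M]
    [AddCommGroup N] [Module R N] [Module.Finite R N] (f : M →ₗ[R] N) (e : N ≃ₗ[R] M)
    (h : ∀ (J : Ideal R) (x : M), f x ∈ J • (⊤ : Submodule R N) → x ∈ J • (⊤ : Submodule R M)) :
    Function.Surjective f := by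
  haveI : Module.Finite R M := Module.Finite.equiv e
  rw [← LinearMap.range_eq_top]
  by_contra hne
  let Q := N ⧸ LinearMap.range f
  have hann : Module.annihilator R Q ≠ ⊤ := by
    intro htop
    refine hne (eq_top_iff.2 fun n _ => ?_)
    have h1 : (1 : R) • (Submodule.Quotient.mk n : Q) = 0 :=
      Module.mem_annihilator.1 (htop ▸ Submodule.mem_top) _
    rw [one_smul, Submodule.Quotient.mk_eq_zero] at h1
    exact h1
  obtain ⟨m, hm, hle⟩ := Ideal.exists_le_maximal _ hann
  have hsup : ∀ n : N, ∃ y : M, n - f y ∈ m • (⊤ : Submodule R N) := by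
    haveI := hm
    letI := Ideal.Quotient.field m
    let M₁ := M ⧸ m • (⊤ : Submodule R M)
    let fb : M₁ →ₗ[R] (N ⧸ m • (⊤ : Submodule R N)) :=
      (m • (⊤ : Submodule R M)).mapQ (m • (⊤ : Submodule R N)) f (by
        rw [← Submodule.map_le_iff_le_comap, Submodule.map_smul'']
        exact Submodule.smul_mono le_rfl le_top)
    let eb : (N ⧸ m • (⊤ : Submodule R N)) ≃ₗ[R] M₁ :=
      Submodule.Quotient.equiv _ _ e (by rw [Submodule.map_smul'', Submodule.map_top, LinearEquiv.range])
    have hinj : Function.Injective (eb.toLinearMap.comp fb) := eb.injective.comp (by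
      rw [injective_iff_map_eq_zero]
      intro z hz
      induction z using Submodule.Quotient.induction_on with
      | _ x =>
        rw [Submodule.mapQ_apply, Submodule.Quotient.mk_eq_zero] at hz
        exact (Submodule.Quotient.mk_eq_zero _).2 (h m x hz))
    haveI : IsArtinian (R ⧸ m) M₁ := inferInstance
    haveI : IsArtinian R M₁ := isArtinian_of_surjective_algebraMap (R := R ⧸ m) (S := R) Ideal.Quotient.mk_surjective
    intro n
    obtain ⟨z, hz⟩ := IsArtinian.surjective_of_injective_endomorphism (eb.toLinearMap.comp fb) hinj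
      (eb (Submodule.Quotient.mk n))
    induction z using Submodule.Quotient.induction_on with
    | _ y =>
      refine ⟨y, (Submodule.Quotient.eq _).1 ?_⟩
      exact (eb.injective hz).symm
  obtain ⟨r, hr, hr0⟩ := Submodule.exists_sub_one_mem_and_smul_eq_zero_of_fg_of_le_smul m (⊤ : Submodule R Q)
    Module.Finite.fg_top (by
      intro q _
      obtain ⟨n, rfl⟩ := Submodule.Quotient.mk_surjective _ q
      obtain ⟨y, hy⟩ := hsup n
      have hmap : Submodule.map (LinearMap.range f).mkQ (m • (⊤ : Submodule R N)) = m • ⊤ := by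
        rw [Submodule.map_smul'', Submodule.map_top, Submodule.range_mkQ]
      rw [← hmap]
      refine ⟨_, hy, ?_⟩
      rw [map_sub, Submodule.mkQ_apply, Submodule.mkQ_apply, sub_eq_self, Submodule.Quotient.mk_eq_zero]
      exact ⟨y, rfl⟩)
  have hra : r ∈ m := hle (Module.mem_annihilator.2 fun q => hr0 q Submodule.mem_top)
  exact hm.ne_top ((Ideal.eq_top_iff_one m).2 (by simpa using m.sub_mem hra hr))

variable {X : Scheme.{u}} {Λ : Type (u + 1)} [CommRing Λ]

/-- Lifts of finitely many stalk elements to one neighbourhood. -/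
theorem exists_lift_sections {Ω : Type u} [Field Ω] [IsSepClosed Ω] (ξ : Spec (CommRingCat.of Ω) ⟶ X)
    (F : EtModW.Mod Λ X) {W : X.Etale} (tw : (Scheme.pointSmallEtale ξ).fiber.obj W) {r : ℕ}
    (p : Fin r → (EtModW.stalk Λ ξ).obj F) :
    ∃ (V : X.Etale) (g : V ⟶ W) (t : (Scheme.pointSmallEtale ξ).fiber.obj V) (s : Fin r → F.obj.obj (op V)),
      (Scheme.pointSmallEtale ξ).fiber.map g t = tw ∧
        ∀ i, (Scheme.pointSmallEtale ξ).toPresheafFiber V t F.obj (s i) = p i := by
  let P : X.smallEtaleTopology.Point := Scheme.pointSmallEtale ξ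
  induction r with
  | zero => exact ⟨W, 𝟙 W, tw, Fin.elim0, by simp, fun i => i.elim0⟩
  | succ r ih =>
    obtain ⟨V, g, t, s, hg, hs⟩ := ih (fun i => p i.succ)
    obtain ⟨U, z, a, ha⟩ := P.toPresheafFiber_jointly_surjective (p 0)
    obtain ⟨⟨V', t'⟩, ⟨b, hb⟩, ⟨c, hc⟩, -⟩ :=
      IsCofilteredOrEmpty.cone_objs (C := P.fiber.Elements) ⟨V, t⟩ ⟨U, z⟩
    refine ⟨V', b ≫ g, t', Fin.cons (F.obj.map c.op a) (fun i => F.obj.map b.op (s i)), ?_, ?_⟩
    · rw [Functor.map_comp, ConcreteCategory.comp_apply, show P.fiber.map b t' = t from hb, hg]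
    · intro i
      induction i using Fin.cases with
      | zero =>
        rw [Fin.cons_zero, P.toPresheafFiber_w_apply, show P.fiber.map c t' = z from hc]
        exact ha
      | succ i =>
        rw [Fin.cons_succ, P.toPresheafFiber_w_apply, show P.fiber.map b t' = t from hb]
        exact hs i

/-- Finitely many sections with zero germ vanish on one neighbourhood. -/
theorem exists_vanish_sections {Ω : Type u} [Field Ω] [IsSepClosed Ω] (ξ : Spec (CommRingCat.of Ω) ⟶ X)
    (F : EtModW.Mod Λ X) {W : X.Etale} (tw : (Scheme.pointSmallEtale ξ).fiber.obj W) {r : ℕ}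
    (s : Fin r → F.obj.obj (op W)) (hs : ∀ i, (Scheme.pointSmallEtale ξ).toPresheafFiber W tw F.obj (s i) = 0) :
    ∃ (V : X.Etale) (g : V ⟶ W) (t : (Scheme.pointSmallEtale ξ).fiber.obj V),
      (Scheme.pointSmallEtale ξ).fiber.map g t = tw ∧ ∀ i, res _ F g (s i) = 0 := by
  let P : X.smallEtaleTopology.Point := Scheme.pointSmallEtale ξ
  induction r with
  | zero => exact ⟨W, 𝟙 W, tw, by simp, fun i => i.elim0⟩
  | succ r ih =>
    obtain ⟨V, g, t, hg, hv⟩ := ih (fun i => s i.succ) fun i => hs i.succ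
    obtain ⟨V', h, t', ht', he⟩ := (P.toPresheafFiber_eq_iff' V t (res _ F g (s 0)) 0).1 (by
      rw [map_zero]
      show P.toPresheafFiber V t F.obj (F.obj.map g.op (s 0)) = 0
      rw [P.toPresheafFiber_w_apply, hg]
      exact hs 0)
    refine ⟨V', h ≫ g, t', by rw [Functor.map_comp, ConcreteCategory.comp_apply, ht', hg], fun i => ?_⟩
    rw [res_comp]
    induction i using Fin.cases with
    | zero => exact he.trans (map_zero _)
    | succ i => rw [hv i, map_zero]

/-- The stalk lifts to a linear map into sections near the point. -/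
theorem exists_linear_lift [IsNoetherianRing Λ] {Ω : Type u} [Field Ω] [IsSepClosed Ω] (ξ : Spec (CommRingCat.of Ω) ⟶ X)
    (F : EtModW.Mod Λ X) [Module.Finite Λ ((EtModW.stalk Λ ξ).obj F)] {W : X.Etale}
    (tw : (Scheme.pointSmallEtale ξ).fiber.obj W) :
    ∃ (V : X.Etale) (g : V ⟶ W) (t : (Scheme.pointSmallEtale ξ).fiber.obj V)
      (m : ((EtModW.stalk Λ ξ).obj F) →ₗ[Λ] F.obj.obj (op V)),
      (Scheme.pointSmallEtale ξ).fiber.map g t = tw ∧
        ∀ x, (Scheme.pointSmallEtale ξ).toPresheafFiber V t F.obj (m x) = x := by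
  let P : X.smallEtaleTopology.Point := Scheme.pointSmallEtale ξ
  obtain ⟨r, π, hπ⟩ := Module.Finite.exists_fin' Λ ((EtModW.stalk Λ ξ).obj F)
  obtain ⟨V, g, t, s, hg, hs⟩ := exists_lift_sections ξ F tw fun i => π (Pi.single i 1)
  let m₀ : (Fin r → Λ) →ₗ[Λ] F.obj.obj (op V) := (Pi.basisFun Λ (Fin r)).constr Λ s
  have hm₀ : ∀ a, P.toPresheafFiber V t F.obj (m₀ a) = π a := by
    have e : (P.toPresheafFiber V t F.obj).hom.comp m₀ = π := (Pi.basisFun Λ (Fin r)).ext fun i => by
      rw [LinearMap.comp_apply, Module.Basis.constr_basis, Pi.basisFun_apply]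
      exact hs i
    exact fun a => LinearMap.congr_fun e a
  obtain ⟨q, k, hk⟩ := Submodule.fg_iff_exists_fin_generating_family.1 (IsNoetherian.noetherian (LinearMap.ker π))
  obtain ⟨V', g', t', hg', hv⟩ := exists_vanish_sections ξ F t (fun i => m₀ (k i)) fun i => by
    rw [hm₀]
    exact (hk.le (Submodule.subset_span ⟨i, rfl⟩) : k i ∈ LinearMap.ker π)
  have hle : LinearMap.ker π ≤ LinearMap.ker ((res _ F g').comp m₀) := by
    rw [← hk, Submodule.span_le]
    rintro _ ⟨i, rfl⟩
    exact hv i
  refine ⟨V', g' ≫ g, t', ((LinearMap.ker π).liftQ _ hle).comp (π.quotKerEquivOfSurjective hπ).symm.toLinearMap, ?_, fun x => ?_⟩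
  · rw [Functor.map_comp, ConcreteCategory.comp_apply, hg', hg]
  · obtain ⟨a, rfl⟩ := hπ x
    rw [LinearMap.comp_apply, LinearEquiv.coe_coe,
      show (π.quotKerEquivOfSurjective hπ).symm (π a) = Submodule.Quotient.mk a from
        (LinearEquiv.symm_apply_eq _).2 rfl, Submodule.liftQ_apply]
    show P.toPresheafFiber V' t' F.obj (F.obj.map g'.op (m₀ a)) = π a
    rw [P.toPresheafFiber_w_apply, hg', hm₀]

/-- A constructible sheaf is locally constant on an open around a generic point. -/
theorem exists_open_flc_of_generic [IsNoetherianRing Λ] [IsLocallyNoetherian X] (F : EtModW.Mod Λ X)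
    (hF : EtModW.IsConstructible Λ F) (t : X) (hgen : ∀ O : Set X, IsOpen O → O.Nonempty → t ∈ O) :
    ∃ O : X.Opens, t ∈ O ∧ EtModW.IsFTLocConst Λ ((EtModW.pull Λ O.ι).obj F) := by
  haveI := hasSheafCompose_et Λ X
  obtain ⟨V₀, T, g, himm, htV, hrange, hflc⟩ := generic_of_isConstructible F hF t
  haveI := himm
  have hcl : ∀ y, y ∈ closure ({t} : Set X) := fun y => mem_closure_iff.2 fun O hO hy =>
    ⟨t, hgen O hO ⟨y, hy⟩, rfl⟩
  obtain ⟨t₁, ht₁⟩ : t ∈ Set.range g.base := hrange.ge ⟨htV, hcl t⟩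
  have hspecT : ∀ y : T, t₁ ⤳ y := fun y => g.isEmbedding.isInducing.specializes_iff.1 (by
    refine specializes_iff_mem_closure.2 ?_
    rw [show g t₁ = t from ht₁]
    exact hcl _)
  let ξ := gpt t
  let P : X.smallEtaleTopology.Point := Scheme.pointSmallEtale ξ
  haveI := finite_stalk F hF ξ
  let W₀ : X.Etale := MorphismProperty.Over.mk _ V₀.ι (inferInstanceAs (Etale V₀.ι))
  obtain ⟨tw, -⟩ := exists_fib ξ (U := W₀) (⟨t, htV⟩ : ↥(V₀ : Scheme.{u})) (gpt_default t).symm
  obtain ⟨V, r, tv, m, hr, hm⟩ := exists_linear_lift ξ F tw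
  let v : V.left := tv.left (default : Spec (CommRingCat.of (SeparableClosure (X.residueField t))))
  have hv : V.hom v = t := (congrArg (fun l : Spec (CommRingCat.of (SeparableClosure (X.residueField t))) ⟶ X => l default)
    (Over.w tv)).trans (gpt_default t)
  obtain ⟨V₁, r₁, v₁, hv₁, hsing⟩ := GrothLib.LocConst.exists_open_fibre_singleton V t v hv
  obtain ⟨t₁', ht₁'⟩ := GrothLib.LocConst.exists_fib_lift ξ r₁ tv v₁ hv₁
  have hm₁ : ∀ x, P.toPresheafFiber V₁ t₁' F.obj (res _ F r₁ (m x)) = x := fun x => by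
    show P.toPresheafFiber V₁ t₁' F.obj (F.obj.map r₁.op (m x)) = x
    rw [P.toPresheafFiber_w_apply, ht₁', hm]
  let m₁ := (res _ F r₁).comp m
  -- reflecting multiples
  have key : ∀ {U : X.Etale} (f : U ⟶ V₁), Nonempty U.left → ∀ (J : Ideal Λ) (x : (EtModW.stalk Λ ξ).obj F),
      res _ F f (m₁ x) ∈ J • (⊤ : Submodule Λ (F.obj.obj (op U))) →
        x ∈ J • (⊤ : Submodule Λ ((EtModW.stalk Λ ξ).obj F)) := by
    rintro U f ⟨z⟩ J x hx
    haveI : Etale U.hom := U.prop
    obtain ⟨z', hz'⟩ := hgen _ U.hom.isOpenMap.isOpen_range (Set.range_nonempty_iff_nonempty.2 ⟨z⟩)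
    have hzv : f.left z' = v₁ := hsing _
      ((congrArg (fun l : U.left ⟶ X => l z') (MorphismProperty.Over.w f)).trans hz')
    have hone : v₁ = t₁'.left (default : Spec (CommRingCat.of (SeparableClosure (X.residueField t)))) :=
      (hsing _ ((congrArg (fun l : Spec (CommRingCat.of (SeparableClosure (X.residueField t))) ⟶ X => l default)
        (Over.w t₁')).trans (gpt_default t))).symm
    obtain ⟨τ, hτ⟩ := GrothLib.LocConst.exists_fib_lift ξ f t₁' z' (hzv.trans hone)
    have h := Submodule.mem_map_of_mem (f := (P.toPresheafFiber U τ F.obj).hom) hx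
    rw [Submodule.map_smul''] at h
    have e : (P.toPresheafFiber U τ F.obj).hom (res _ F f (m₁ x)) = x := by
      show P.toPresheafFiber U τ F.obj (F.obj.map f.op (res _ F r₁ (m x))) = x
      rw [P.toPresheafFiber_w_apply, hτ, hm₁]
    rw [e] at h
    exact Submodule.smul_mono le_rfl le_top h
  have hbij : ∀ {Ω : Type u} [Field Ω] [IsSepClosed Ω] (ζ : Spec (CommRingCat.of Ω) ⟶ X)
      (τ : (Scheme.pointSmallEtale ζ).fiber.obj V₁),
      Function.Bijective ((((Scheme.pointSmallEtale ζ).toPresheafFiber V₁ τ F.obj).hom).comp m₁) := by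
    intro Ω _ _ ζ τ
    haveI := preservesFilteredColimits_forget_mod Λ
    let Q : X.smallEtaleTopology.Point := Scheme.pointSmallEtale ζ
    have hJ : ∀ (J : Ideal Λ) (x), Q.toPresheafFiber V₁ τ F.obj (m₁ x) ∈ J • (⊤ : Submodule Λ ((EtModW.stalk Λ ζ).obj F)) →
        x ∈ J • (⊤ : Submodule Λ ((EtModW.stalk Λ ξ).obj F)) := by
      intro J x hx
      suffices ∀ e ∈ J • (⊤ : Submodule Λ ((EtModW.stalk Λ ζ).obj F)), ∃ (U : X.Etale) (f : U ⟶ V₁)
          (τ' : Q.fiber.obj U) (s : F.obj.obj (op U)), Q.fiber.map f τ' = τ ∧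
            s ∈ J • (⊤ : Submodule Λ (F.obj.obj (op U))) ∧ Q.toPresheafFiber U τ' F.obj s = e by
        obtain ⟨U, f, τ', s, hf, hs, hse⟩ := this _ hx
        obtain ⟨U', h, τ'', hτ'', he⟩ := (Q.toPresheafFiber_eq_iff' U τ' (res _ F f (m₁ x)) s).1 (by
          rw [hse]
          show Q.toPresheafFiber U τ' F.obj (F.obj.map f.op (m₁ x)) = _
          rw [Q.toPresheafFiber_w_apply, hf])
        refine key (h ≫ f) ⟨τ''.left (default : Spec (CommRingCat.of Ω))⟩ J x ?_
        rw [res_comp, show res _ F h (res _ F f (m₁ x)) = res _ F h s from he]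
        have := Submodule.mem_map_of_mem (f := res _ F h) hs
        rw [Submodule.map_smul''] at this
        exact Submodule.smul_mono le_rfl le_top this
      intro e he
      refine Submodule.smul_induction_on he (fun a ha b _ => ?_) ?_
      · obtain ⟨U, z, s, rfl⟩ := Q.toPresheafFiber_jointly_surjective b
        obtain ⟨⟨U', z'⟩, ⟨c, hc⟩, ⟨f, hf⟩, -⟩ :=
          IsCofilteredOrEmpty.cone_objs (C := Q.fiber.Elements) ⟨U, z⟩ ⟨V₁, τ⟩
        refine ⟨U', f, z', a • F.obj.map c.op s, hf, Submodule.smul_mem_smul ha trivial, ?_⟩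
        rw [map_smul, Q.toPresheafFiber_w_apply, show Q.fiber.map c z' = z from hc]
        rfl
      · rintro e₁ e₂ ⟨U, f, z, s, hf, hs, rfl⟩ ⟨U', f', z', s', hf', hs', rfl⟩
        obtain ⟨⟨U'', z''⟩, ⟨c, hc⟩, ⟨c', hc'⟩, -⟩ :=
          IsCofilteredOrEmpty.cone_objs (C := Q.fiber.Elements) ⟨U, z⟩ ⟨U', z'⟩
        refine ⟨U'', c ≫ f, z'', res _ F c s + res _ F c' s', ?_, add_mem ?_ ?_, ?_⟩
        · rw [Functor.map_comp, ConcreteCategory.comp_apply, show Q.fiber.map c z'' = z from hc, hf]
        · have := Submodule.mem_map_of_mem (f := res _ F c) hs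
          rw [Submodule.map_smul''] at this
          exact Submodule.smul_mono le_rfl le_top this
        · have := Submodule.mem_map_of_mem (f := res _ F c') hs'
          rw [Submodule.map_smul''] at this
          exact Submodule.smul_mono le_rfl le_top this
        · rw [map_add]
          show Q.toPresheafFiber U'' z'' F.obj (F.obj.map c.op s) + Q.toPresheafFiber U'' z'' F.obj (F.obj.map c'.op s') = _
          rw [Q.toPresheafFiber_w_apply, Q.toPresheafFiber_w_apply, show Q.fiber.map c z'' = z from hc,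
            show Q.fiber.map c' z'' = z' from hc']
          rfl
    refine ⟨(injective_iff_map_eq_zero _).2 fun x hx => ?_, ?_⟩
    · have := hJ ⊥ x (by rw [show Q.toPresheafFiber V₁ τ F.obj (m₁ x) = 0 from hx]; exact zero_mem _)
      rwa [Submodule.bot_smul, Submodule.mem_bot] at this
    · -- the two stalks are isomorphic
      let τl : Spec (CommRingCat.of Ω) ⟶ V₁.left := τ.left
      have hyV : ζ.base default ∈ V₀ := by
        have h1 : V₁.hom (τl default) = ζ.base default :=
          congrArg (fun l : Spec (CommRingCat.of Ω) ⟶ X => l default) (Over.w τ)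
        rw [← h1, ← MorphismProperty.Over.w (r₁ ≫ r)]
        exact ((r₁ ≫ r).left (τl default)).2
      obtain ⟨y, hy⟩ := hrange.ge ⟨hyV, hcl _⟩
      obtain ⟨ζ', hζ', hζy⟩ := GrothLib.Constructible.exists_point_lift g ζ y hy
      obtain ⟨ξ', hξ', hξt⟩ := GrothLib.Constructible.exists_point_lift g ξ t₁ (ht₁.trans (gpt_default t).symm)
      subst hζ'
      obtain ⟨i⟩ := nonempty_iso_of_specializes ζ' ξ' ((Functor.const (Discrete PUnit.{1})).obj ((EtModW.pull Λ g).obj F))
        (fun _ x => by
          obtain ⟨V, v, hv, M, i₁, i₂, -, m, hm⟩ := exists_triv_of_isFTLocConst hflc x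
          exact ⟨V, v, hv, M, i₁, i₂, m, hm⟩)
        (by rw [hζy, hξt]; exact hspecT y)
      haveI : Module.Finite Λ ((Scheme.pointSmallEtale (ζ' ≫ g)).presheafFiber (A := ModuleCat.{u + 1} Λ) |>.obj F.obj) :=
        finite_stalk F hF (ζ' ≫ g)
      exact surjective_of_reflects_smul _ (((pullStalkIso ζ' g).app F).symm ≪≫ i.app ⟨PUnit.unit⟩ ≪≫
        (pullStalkIso ξ' g).app F ≪≫ eqToIso (by rw [hξ'])).toLinearEquiv hJ
  have htriv : IsTriv X.smallEtaleTopology F V₁ m₁ := by
    refine ⟨fun U f s => ?_, fun U f x hx => ?_⟩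
    · let S : Sieve U :=
        { arrows := fun U' h => ∃ x, res _ F h s = res _ F (h ≫ f) (m₁ x)
          downward_closed := by
            rintro U' U'' h ⟨x, hx⟩ l
            exact ⟨x, by rw [res_comp, hx, ← res_comp, Category.assoc]⟩ }
      refine ⟨S, mem_of_forall _ fun y => ?_, fun U' h hh => hh⟩
      let Q : X.smallEtaleTopology.Point := Scheme.pointSmallEtale (gpt (U.hom y))
      obtain ⟨τ, hτ⟩ := exists_fib (gpt (U.hom y)) y (gpt_default _).symm
      obtain ⟨x, hx⟩ := (hbij (gpt (U.hom y)) (Q.fiber.map f τ)).2 (Q.toPresheafFiber U τ F.obj s)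
      obtain ⟨U', h, τ', hτ', he⟩ := (Q.toPresheafFiber_eq_iff' U τ s (res _ F f (m₁ x))).1 (by
        show _ = Q.toPresheafFiber U τ F.obj (F.obj.map f.op (m₁ x))
        rw [Q.toPresheafFiber_w_apply]
        exact hx.symm)
      exact ⟨U', h, _, ⟨x, (show res _ F h s = _ from he).trans (res_comp F h f _).symm⟩,
        (base_fiber_map _ h τ' τ hτ').trans hτ⟩
    · by_cases hU : Nonempty U.left
      · have := key f hU ⊥ x (by rw [hx]; exact zero_mem _)
        rw [Submodule.bot_smul, Submodule.mem_bot] at this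
        exact Or.inl this
      · exact Or.inr (mem_of_forall _ fun y => (hU ⟨y⟩).elim)
  haveI : Etale V₁.hom := V₁.prop
  exact ⟨⟨Set.range V₁.hom, V₁.hom.isOpenMap.isOpen_range⟩,
    ⟨t₁'.left (default : Spec (CommRingCat.of (SeparableClosure (X.residueField t)))),
      (congrArg (fun l : Spec (CommRingCat.of (SeparableClosure (X.residueField t))) ⟶ X => l default)
        (Over.w t₁')).trans (gpt_default t)⟩,
    flc_pull_image V₁ _ rfl m₁ htriv⟩

end GrothLib.ModConstr
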