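import Groth.Agent.Lib.ModConstr.Noetherian
import Groth.Agent.Lib.Constructible.Serre
import Groth.Agent.Lib.TrivMod.Special

/-!
# Constructible sheaves of modules: kernels, cokernels, extensions, subobjects
-/

universe u

open CategoryTheory CategoryTheory.Limits AlgebraicGeometry Opposite Topology

set_option backward.isDefEq.respectTransparency.types false
set_option linter.style.haveILetI false

noncomputable section

namespace GrothLib.ModConstr

open GrothLib.Constructible (exists_generators isConstructible_preimage_of_fac affine_nhd isConstructible_of_isOpen_of_noetherian)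
open GrothLib.TrivEt GrothLib.TrivMod GrothLib.EtSite

variable {X : Scheme.{u}} {Λ : Type (u + 1)} [CommRing Λ]

theorem exists_hom_common {F G : EtModW.Mod Λ X} (φ : F ⟶ G) (hF : EtModW.IsFTLocConst Λ F)
    (hG : EtModW.IsFTLocConst Λ G) (x : X) :
    ∃ (V : X.Etale) (v : V.left), V.hom v = x ∧
      ∃ (M N : Type (u + 1)) (_ : AddCommGroup M) (_ : AddCommGroup N) (_ : Module Λ M) (_ : Module Λ N)
        (_ : Module.Finite Λ M) (_ : Module.Finite Λ N)
        (h : M →ₗ[Λ] N) (m : M →ₗ[Λ] F.obj.obj (op V)) (n : N →ₗ[Λ] G.obj.obj (op V)),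
        IsTriv X.smallEtaleTopology F V m ∧ IsTriv X.smallEtaleTopology G V n ∧
          ∀ a, φ.hom.app (op V) (m a) = n (h a) := by
  obtain ⟨V, v, hv, M, N, _, _, _, _, _, _, m, n, hm, hn⟩ := exists_common hF hG x
  obtain ⟨W, g, z, h, hz, hh⟩ := exists_hom_triv hm hn φ v
  exact ⟨W, z, (hom_over_eq g hz).trans hv, M, N, inferInstance, inferInstance, inferInstance,
    inferInstance, inferInstance, inferInstance, h, _, _, hm.restrict g, hn.restrict g, hh⟩

theorem flc_left [IsNoetherianRing Λ] (S : ShortComplex (EtModW.Mod Λ X)) (hS : S.Exact) [Mono S.f]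
    (h2 : EtModW.IsFTLocConst Λ S.X₂) (h3 : EtModW.IsFTLocConst Λ S.X₃) : EtModW.IsFTLocConst Λ S.X₁ :=
  isFTLocConst_of_forall fun x => by
    obtain ⟨V, v, hv, M, N, _, _, _, _, _, _, h, m, n, hm, hn, hh⟩ := exists_hom_common S.g h2 h3 x
    obtain ⟨k, hk⟩ := exists_triv_kernel hS hm hn h hh
    haveI : IsNoetherian Λ M := isNoetherian_of_isNoetherianRing_of_finite Λ M
    exact ⟨V, v, hv, _, inferInstance, inferInstance, inferInstance, k, hk⟩

theorem flc_right (S : ShortComplex (EtModW.Mod Λ X)) (hS : S.Exact) [Epi S.g]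
    (h1 : EtModW.IsFTLocConst Λ S.X₁) (h2 : EtModW.IsFTLocConst Λ S.X₂) : EtModW.IsFTLocConst Λ S.X₃ := by
  have e : cokernel S.f ≅ S.X₃ := (cokernelIsCokernel S.f).coconePointUniqueUpToIso hS.gIsCokernel
  refine flc_of_iso e (isFTLocConst_of_forall fun x => ?_)
  obtain ⟨V, v, hv, M, N, _, _, _, _, _, _, h, m, n, hm, hn, hh⟩ := exists_hom_common S.f h1 h2 x
  obtain ⟨k, hk⟩ := exists_triv_cokernel S.f hm hn h hh
  exact ⟨V, v, hv, _, inferInstance, inferInstance, inferInstance, k, hk⟩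

theorem flc_middle [IsNoetherianRing Λ] (S : ShortComplex (EtModW.Mod Λ X)) (hS : S.ShortExact)
    (h1 : EtModW.IsFTLocConst Λ S.X₁) (h3 : EtModW.IsFTLocConst Λ S.X₃) : EtModW.IsFTLocConst Λ S.X₂ :=
  isFTLocConst_of_forall fun x => by
    obtain ⟨V, v, hv, M, N, _, _, _, _, _, _, m, n, hm, hn⟩ := exists_common h1 h3 x
    obtain ⟨W, g, z, hz, M₂, hfg, hM₂⟩ := exists_triv_extension hS hm hn v
    exact ⟨W, z, (hom_over_eq g hz).trans hv, M₂, inferInstance, inferInstance,
      Module.Finite.iff_fg.2 hfg, M₂.subtype, hM₂⟩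

/-- A trivialisation on `W` makes the sheaf finite type locally constant on the open image of `W`. -/
theorem flc_pull_image {F : EtModW.Mod Λ X} (W : X.Etale) (O : X.Opens)
    (hO : (O : Set X) = Set.range W.hom.base) {M : Type (u + 1)} [AddCommGroup M] [Module Λ M] [Module.Finite Λ M]
    (m : M →ₗ[Λ] F.obj.obj (op W)) (hm : IsTriv X.smallEtaleTopology F W m) :
    EtModW.IsFTLocConst Λ ((EtModW.pull Λ O.ι).obj F) := by
  haveI : Etale W.hom := W.prop
  let q : W.left ⟶ (O : Scheme.{u}) := IsOpenImmersion.lift O.ι W.hom (by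
    rw [Scheme.Opens.range_ι, hO])
  have hq : q ≫ O.ι = W.hom := IsOpenImmersion.lift_fac _ _ _
  haveI : Etale (q ≫ O.ι) := hq.symm ▸ inferInstance
  haveI : Etale q := Etale.of_comp q O.ι
  refine ⟨PUnit.{u + 1}, fun _ => Scheme.Etale.mk q, fun y => ⟨PUnit.unit, ?_⟩,
    fun _ => ⟨M, inferInstance, inferInstance, inferInstance, ?_⟩⟩
  · obtain ⟨w, hw⟩ : O.ι y ∈ Set.range W.hom.base := hO ▸ y.2
    refine ⟨w, O.ι.isOpenEmbedding.injective ?_⟩
    exact (congrArg (fun k : W.left ⟶ X => k w) hq).trans hw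
  · rw [GrothLib.LocConst.restr_iso_const_iff_mod]
    obtain ⟨e⟩ := (GrothLib.LocConst.restr_iso_const_iff_mod Λ F W (ModuleCat.of Λ M)).1
      (nonempty_iso_of_isTriv.{u + 1, u, u + 1} _ hm)
    exact ⟨((FixPt.pullCongr hq.symm ≪≫ FixPt.pullComp q O.ι).app F).symm ≪≫ e⟩

/-- Subsheaves of finite type locally constant sheaves are such near a point lying in every nonempty open. -/
theorem exists_flc_nhd_sub [IsNoetherianRing Λ] {F G : EtModW.Mod Λ X} (i : G ⟶ F) [Mono i]
    (hF : EtModW.IsFTLocConst Λ F) (t : X) (hgen : ∀ O : Set X, IsOpen O → O.Nonempty → t ∈ O) :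
    ∃ O : X.Opens, t ∈ O ∧ EtModW.IsFTLocConst Λ ((EtModW.pull Λ O.ι).obj G) := by
  classical
  obtain ⟨U, u, hu, M, _, _, _, m, hm⟩ := exists_triv_of_isFTLocConst hF t
  obtain ⟨W, g, w, hgw, hsing⟩ := GrothLib.LocConst.exists_open_fibre_singleton U t u hu
  have hwt : W.hom w = t := (hom_over_eq g hgw).trans hu
  let ξ := gpt t
  let P : X.smallEtaleTopology.Point := Scheme.pointSmallEtale ξ
  obtain ⟨tw, htw⟩ := exists_fib ξ w (hwt.trans (gpt_default t).symm)
  let L : M →ₗ[Λ] (EtModW.stalk Λ ξ).obj F :=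
    (P.toPresheafFiber W tw F.obj).hom.comp ((res _ F g).comp m)
  let M' : Submodule Λ M := (LinearMap.range ((EtModW.stalk Λ ξ).map i).hom).comap L
  haveI : IsNoetherian Λ M := isNoetherian_of_isNoetherianRing_of_finite Λ M
  obtain ⟨s, hs⟩ := IsNoetherian.noetherian M'
  have hinj : ∀ V : X.Etale, Function.Injective (i.hom.app (op V)) := fun V => by
    haveI : Mono ((sheafToPresheaf _ _ ⋙ (evaluation _ _).obj (op V)).map i) := inferInstance
    exact (ModuleCat.mono_iff_injective ((sheafToPresheaf _ _ ⋙ (evaluation _ _).obj (op V)).map i)).1 inferInstance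
  have hnat : ∀ {V V' : X.Etale} (k : V' ⟶ V) (a : G.obj.obj (op V)),
      i.hom.app (op V') (res _ G k a) = res _ F k (i.hom.app (op V) a) := fun k a =>
    NatTrans.naturality_apply i.hom k.op a
  have hfib : ∀ {V : X.Etale} (r : V ⟶ W) (v : V.left), V.hom v = t →
      ∃ tv : P.fiber.obj V, P.fiber.map r tv = tw := fun {V} r v hv => by
    refine GrothLib.LocConst.exists_fib_lift ξ r tw v ((hsing _ ?_).trans htw.symm)
    exact (congrArg (fun l : V.left ⟶ X => l v) (MorphismProperty.Over.w r)).trans hv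
  obtain ⟨W₂, k, t₂, ht₂, hk⟩ : ∃ (W₂ : X.Etale) (k : W₂ ⟶ W) (t₂ : P.fiber.obj W₂), P.fiber.map k t₂ = tw ∧
      ∀ x ∈ s, ∃ y, i.hom.app (op W₂) y = res _ F (k ≫ g) (m x) := by
    suffices ∀ s' : Finset M, s' ⊆ s → ∃ (W₂ : X.Etale) (k : W₂ ⟶ W) (t₂ : P.fiber.obj W₂),
        P.fiber.map k t₂ = tw ∧ ∀ x ∈ s', ∃ y, i.hom.app (op W₂) y = res _ F (k ≫ g) (m x) from this s subset_rfl
    intro s'
    induction s' using Finset.induction with
    | empty => exact fun _ => ⟨W, 𝟙 W, tw, by simp, by simp⟩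
    | @insert x s' _ ih =>
      intro hsub
      obtain ⟨W₂, k, t₂, ht₂, hk⟩ := ih ((Finset.subset_insert x s').trans hsub)
      obtain ⟨p, hp⟩ : x ∈ M' := hs ▸ Submodule.subset_span (hsub (Finset.mem_insert_self x s'))
      obtain ⟨V, v, z, rfl⟩ := P.toPresheafFiber_jointly_surjective p
      obtain ⟨⟨V₁, v₁⟩, ⟨a, ha⟩, ⟨b, hb⟩, -⟩ :=
        IsCofilteredOrEmpty.cone_objs (C := P.fiber.Elements) ⟨W₂, t₂⟩ ⟨V, v⟩
      have e : P.toPresheafFiber V₁ v₁ F.obj (F.obj.map b.op (i.hom.app (op V) z)) =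
          P.toPresheafFiber V₁ v₁ F.obj (F.obj.map a.op (F.obj.map k.op (res _ F g (m x)))) := by
        rw [P.toPresheafFiber_w_apply, P.toPresheafFiber_w_apply, P.toPresheafFiber_w_apply,
          show P.fiber.map b v₁ = v from hb, show P.fiber.map a v₁ = t₂ from ha, ht₂]
        exact (P.toPresheafFiber_naturality_apply i.hom V v z).symm.trans hp
      obtain ⟨V₂, c, v₂, hv₂, hc⟩ := (P.toPresheafFiber_eq_iff' V₁ v₁ _ _).1 e
      refine ⟨V₂, c ≫ a ≫ k, v₂, ?_, fun y hy => ?_⟩
      · rw [Functor.map_comp, Functor.map_comp, ConcreteCategory.comp_apply, ConcreteCategory.comp_apply, hv₂,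
          show P.fiber.map a v₁ = t₂ from ha, ht₂]
      rcases Finset.mem_insert.1 hy with rfl | hy
      · refine ⟨res _ G (c ≫ b) z, ?_⟩
        rw [hnat, res_comp F c b, Category.assoc, Category.assoc, res_comp F c, res_comp F a, res_comp F k]
        exact hc
      · obtain ⟨y', hy'⟩ := hk y hy
        exact ⟨res _ G (c ≫ a) y', by rw [hnat, hy', ← res_comp, Category.assoc, Category.assoc, Category.assoc]⟩
  have hall : ∀ x : M', ∃ y, i.hom.app (op W₂) y = res _ F (k ≫ g) (m x) := fun x => by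
    have : M' ≤ (LinearMap.range (i.hom.app (op W₂)).hom).comap ((res _ F (k ≫ g)).comp m) := by
      rw [← hs]
      exact Submodule.span_le.2 fun y hy => hk y hy
    exact this x.2
  choose n hn using hall
  let nl : M' →ₗ[Λ] G.obj.obj (op W₂) :=
    { toFun := n
      map_add' := fun a b => hinj _ (by rw [map_add, hn, hn, hn, Submodule.coe_add, map_add, map_add])
      map_smul' := fun c a => hinj _ (by
        rw [map_smul, hn, hn, Submodule.coe_smul, map_smul, map_smul, RingHom.id_apply]) }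
  have hm₂ := hm.restrict (k ≫ g)
  have htriv : IsTriv X.smallEtaleTopology G W₂ nl := by
    refine ⟨fun V f a => ?_, fun V f x hx => ?_⟩
    · obtain ⟨S, hS, hS'⟩ := hm₂.surj f (i.hom.app (op V) a)
      refine ⟨S, hS, fun V' l hl => ?_⟩
      obtain ⟨x, hx⟩ := hS' l hl
      by_cases hV' : Nonempty V'.left
      · obtain ⟨v⟩ := hV'
        haveI : Etale V'.hom := V'.prop
        obtain ⟨v', hv'⟩ := hgen _ V'.hom.isOpenMap.isOpen_range (Set.range_nonempty_iff_nonempty.2 ⟨v⟩)
        obtain ⟨tv, htv⟩ := hfib (l ≫ f ≫ k) v' hv'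
        have hxM : x ∈ M' := by
          refine ⟨P.toPresheafFiber V' tv G.obj (res _ G l a), ?_⟩
          refine (P.toPresheafFiber_naturality_apply i.hom V' tv _).trans ?_
          show P.toPresheafFiber V' tv F.obj (i.hom.app (op V') (res _ G l a)) = _
          rw [hnat, hx]
          show P.toPresheafFiber V' tv F.obj (res _ F (l ≫ f) (res _ F (k ≫ g) (m x))) =
            P.toPresheafFiber W tw F.obj (res _ F g (m x))
          rw [← htv, ← P.toPresheafFiber_w_apply, ← res_comp]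
          show _ = P.toPresheafFiber V' tv F.obj (res _ F (l ≫ f ≫ k) (res _ F g (m x)))
          rw [← res_comp]
          simp only [Category.assoc]
        refine ⟨⟨x, hxM⟩, hinj _ ?_⟩
        rw [hnat, hnat, hx]
        exact congrArg (res _ F (l ≫ f)) (hn ⟨x, hxM⟩).symm
      · haveI := hasSheafCompose_et Λ X
        exact ⟨0, res_ext G (S := ⊥) (mem_of_forall _ fun y => (hV' ⟨y⟩).elim) fun _ _ hb => (hb : False).elim⟩
    · refine (hm₂.inj f x ?_).imp (fun h0 => Subtype.ext h0) id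
      show res _ F f (res _ F (k ≫ g) (m x)) = 0
      rw [← hn, ← hnat]
      exact (congrArg (i.hom.app (op V)) hx).trans (map_zero _)
  haveI : Etale W₂.hom := W₂.prop
  refine ⟨⟨Set.range W₂.hom, W₂.hom.isOpenMap.isOpen_range⟩, ?_, flc_pull_image W₂ _ rfl nl htriv⟩
  refine ⟨t₂.left (default : Spec (CommRingCat.of (SeparableClosure (X.residueField t)))), ?_⟩
  exact (congrArg (fun l : Spec (CommRingCat.of (SeparableClosure (X.residueField t))) ⟶ X => l default)
    (Over.w t₂)).trans (gpt_default t)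

/-- A property of sheaves deduced from finite local constancy of two sheaves along every immersion
holds along a common refinement of two stratifications. -/
theorem adapted_of_two (A B C : EtModW.Mod Λ X) (U : X.Opens)
    (hA : EtModW.AdaptedStrata Λ A (U : Set X)) (hB : EtModW.AdaptedStrata Λ B (U : Set X))
    (h : ∀ (T : Scheme.{u}) (b : T ⟶ X), EtModW.IsFTLocConst Λ ((EtModW.pull Λ b).obj A) →
      EtModW.IsFTLocConst Λ ((EtModW.pull Λ b).obj B) →
        EtModW.IsFTLocConst Λ ((EtModW.pull Λ b).obj C)) :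
    EtModW.AdaptedStrata Λ C (U : Set X) := by
  obtain ⟨n, T, g, hg, hgc, -, hgcov, hgflc⟩ := hA
  obtain ⟨m, S, k, hk, hkc, -, hkcov, hkflc⟩ := hB
  haveI : ∀ p : Fin n × Fin m, IsImmersion (pullback.fst (g p.1) (k p.2) ≫ g p.1) := fun p => by
    haveI := hg p.1
    haveI : IsImmersion (pullback.fst (g p.1) (k p.2)) :=
      MorphismProperty.pullback_fst (P := @IsImmersion) _ _ (hk p.2)
    infer_instance
  refine adapted_of_pieces C U (fun p : Fin n × Fin m => pullback (g p.1) (k p.2))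
    (fun p => pullback.fst (g p.1) (k p.2) ≫ g p.1)
    (fun p => Set.range (g p.1) ∩ Set.range (k p.2)) (fun p => ?_) (fun p => ?_) (fun x hx => ?_)
    (fun p => h _ _ ?_ ?_)
  · rintro x ⟨⟨t, rfl⟩, hx⟩
    obtain ⟨z, hz⟩ : t ∈ Set.range (pullback.fst (g p.1) (k p.2)) := by
      rw [Scheme.Pullback.range_fst]
      exact hx
    exact ⟨z, congrArg (g p.1) hz⟩
  · rw [Set.preimage_inter]
    exact (isConstructible_preimage_of_fac U (𝟙 _) U.ι (Category.id_comp _) (hgc p.1)).inter
      (isConstructible_preimage_of_fac U (𝟙 _) U.ι (Category.id_comp _) (hkc p.2))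
  · obtain ⟨i, hi⟩ := Set.mem_iUnion.1 (hgcov.ge hx)
    obtain ⟨j, hj⟩ := Set.mem_iUnion.1 (hkcov.ge hx)
    exact Set.mem_iUnion.2 ⟨⟨i, j⟩, hi, hj⟩
  · exact flc_of_fac _ (g p.1) _ rfl A (hgflc p.1)
  · exact flc_of_fac (pullback.snd _ _) (k p.2) _ pullback.condition.symm B (hkflc p.2)

theorem isConstructible_left [IsNoetherianRing Λ] (S : ShortComplex (EtModW.Mod Λ X)) (hS : S.Exact) [Mono S.f]
    (h2 : EtModW.IsConstructible Λ S.X₂) (h3 : EtModW.IsConstructible Λ S.X₃) :
    EtModW.IsConstructible Λ S.X₁ := fun U hU =>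
  adapted_of_two S.X₂ S.X₃ S.X₁ U (h2 U hU) (h3 U hU) fun T b a2 a3 => by
    haveI : Mono (S.map (EtModW.pull Λ b)).f := pull_map_mono b S.f
    exact flc_left (S.map (EtModW.pull Λ b)) (pull_exact b S hS) a2 a3

theorem isConstructible_right (S : ShortComplex (EtModW.Mod Λ X)) (hS : S.Exact) [Epi S.g]
    (h1 : EtModW.IsConstructible Λ S.X₁) (h2 : EtModW.IsConstructible Λ S.X₂) :
    EtModW.IsConstructible Λ S.X₃ := fun U hU =>
  adapted_of_two S.X₁ S.X₂ S.X₃ U (h1 U hU) (h2 U hU) fun T b a1 a2 => by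
    haveI : Epi (S.map (EtModW.pull Λ b)).g := (EtModW.pull Λ b).map_epi S.g
    exact flc_right (S.map (EtModW.pull Λ b)) (pull_exact b S hS) a1 a2

theorem isConstructible_middle [IsNoetherianRing Λ] (S : ShortComplex (EtModW.Mod Λ X)) (hS : S.ShortExact)
    (h1 : EtModW.IsConstructible Λ S.X₁) (h3 : EtModW.IsConstructible Λ S.X₃) :
    EtModW.IsConstructible Λ S.X₂ := fun U hU =>
  adapted_of_two S.X₁ S.X₃ S.X₂ U (h1 U hU) (h3 U hU) fun T b a1 a3 => by
    haveI := hS.mono_f
    haveI := hS.epi_g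
    haveI : Mono (S.map (EtModW.pull Λ b)).f := pull_map_mono b S.f
    haveI : Epi (S.map (EtModW.pull Λ b)).g := (EtModW.pull Λ b).map_epi S.g
    exact flc_middle (S.map (EtModW.pull Λ b))
      ⟨pull_exact b S hS.exact⟩ a1 a3

theorem isConstructible_kernel_cokernel [IsNoetherianRing Λ] {F G : EtModW.Mod Λ X} (φ : F ⟶ G)
    (hF : EtModW.IsConstructible Λ F) (hG : EtModW.IsConstructible Λ G) :
    EtModW.IsConstructible Λ (kernel φ) ∧ EtModW.IsConstructible Λ (cokernel φ) := by
  refine ⟨?_, ?_⟩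
  · let S : ShortComplex (EtModW.Mod Λ X) := ShortComplex.mk (kernel.ι φ) φ (kernel.condition φ)
    haveI : Mono S.f := inferInstanceAs (Mono (kernel.ι φ))
    exact isConstructible_left S (ShortComplex.exact_kernel φ) hF hG
  · let S : ShortComplex (EtModW.Mod Λ X) := ShortComplex.mk φ (cokernel.π φ) (cokernel.condition φ)
    haveI : Epi S.g := inferInstanceAs (Epi (cokernel.π φ))
    exact isConstructible_right S (ShortComplex.exact_cokernel φ) hF hG

/-- Subsheaves of constructible sheaves are constructible. -/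
theorem isConstructible_sub [IsNoetherianRing Λ] [IsLocallyNoetherian X] {F G : EtModW.Mod Λ X} (i : G ⟶ F) [Mono i]
    (hF : EtModW.IsConstructible Λ F) : EtModW.IsConstructible Λ G :=
  isConstructible_of_generic G fun x => by
    obtain ⟨V, T, g, himm, hxV, hrange, hflc⟩ := generic_of_isConstructible F hF x
    haveI := himm
    obtain ⟨t, ht⟩ : x ∈ Set.range g.base := hrange.ge ⟨hxV, subset_closure rfl⟩
    have hgen : ∀ O : Set T, IsOpen O → O.Nonempty → t ∈ O := fun O hO ⟨y, hy⟩ => by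
      obtain ⟨W, hW, rfl⟩ := g.isEmbedding.isInducing.isOpen_iff.1 hO
      obtain ⟨z, hz, rfl⟩ := mem_closure_iff.1 (hrange.le ⟨y, rfl⟩).2 W hW hy
      change g t ∈ W
      rw [ht]
      exact hz
    haveI := pull_map_mono g i
    obtain ⟨O, htO, hO⟩ :=
      exists_flc_nhd_sub ((EtModW.pull Λ g).map i) hflc t hgen
    obtain ⟨W, hW, hWO⟩ := g.isEmbedding.isInducing.isOpen_iff.1 O.2
    refine ⟨V ⊓ ⟨W, hW⟩, O, O.ι ≫ g, inferInstance,
      ⟨hxV, ht ▸ (hWO.ge htO : t ∈ g ⁻¹' W)⟩, ?_,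
      flc_of_iso ((FixPt.pullComp O.ι g).app G).symm hO⟩
    have hr : Set.range (O.ι ≫ g) = g '' (O : Set T) := by
      rw [show Set.range (O.ι ≫ g) = g '' Set.range O.ι from Set.range_comp g O.ι,
        Scheme.Opens.range_ι]
    refine hr.trans ?_
    rw [show (O : Set T) = g ⁻¹' W from hWO.symm, Set.image_preimage_eq_inter_range, show Set.range g = Set.range g.base from rfl, hrange]
    ext y
    exact ⟨fun ⟨hw, hv, hc⟩ => ⟨⟨hv, hw⟩, hc⟩, fun ⟨⟨hv, hw⟩, hc⟩ => ⟨hw, hv, hc⟩⟩

/-- Quotients of constructible sheaves are constructible. -/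
theorem isConstructible_quot [IsNoetherianRing Λ] [IsLocallyNoetherian X] {F Q : EtModW.Mod Λ X} (p : F ⟶ Q) [Epi p]
    (hF : EtModW.IsConstructible Λ F) : EtModW.IsConstructible Λ Q := by
  let S : ShortComplex (EtModW.Mod Λ X) := ShortComplex.mk (kernel.ι p) p (kernel.condition p)
  haveI : Epi S.g := inferInstanceAs (Epi p)
  exact isConstructible_right S (ShortComplex.exact_kernel p)
    (isConstructible_sub (kernel.ι p) hF) hF

end GrothLib.ModConstr
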