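import Groth.Agent.Lib.ModConstr.Serre

/-!
# Zero and isomorphic copies of constructible sheaves of modules
-/

set_option autoImplicit false
set_option linter.style.haveILetI false
set_option backward.isDefEq.respectTransparency.types false

universe u

open CategoryTheory CategoryTheory.Limits AlgebraicGeometry Opposite

noncomputable section

namespace GrothLib.ModConstr

variable {X : Scheme.{u}} {Λ : Type (u + 1)} [CommRing Λ]

theorem flc_of_isZero {F : EtModW.Mod Λ X} (h : IsZero F) : EtModW.IsFTLocConst Λ F := by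
  haveI := GrothLib.TrivEt.hasSheafCompose_et Λ X
  refine GrothLib.TrivEt.isFTLocConst_of_forall fun x =>
    ⟨MorphismProperty.Over.mk _ (𝟙 X) (inferInstanceAs (Etale (𝟙 X))), x, rfl, PUnit.{u + 2}, inferInstance,
      inferInstance, inferInstance, 0, fun V f s => ?_, fun V f y _ => Or.inl (Subsingleton.elim _ _)⟩
  have hz : IsZero (F.obj.obj (op V)) :=
    ((sheafToPresheaf _ _ ⋙ (evaluation _ _).obj (op V)).map_isZero h)
  haveI := ModuleCat.subsingleton_of_isZero hz
  refine ⟨⊤, X.smallEtaleTopology.top_mem _, fun W g _ => ⟨0, ?_⟩⟩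
  rw [Subsingleton.elim s 0, map_zero, map_zero, map_zero]

theorem isConstructible_of_iso {F G : EtModW.Mod Λ X} (e : F ≅ G) (h : EtModW.IsConstructible Λ F) :
    EtModW.IsConstructible Λ G := fun U hU => by
  obtain ⟨n, T, g, hg, hc, hd, hu, hl⟩ := h U hU
  exact ⟨n, T, g, hg, hc, hd, hu, fun i => flc_of_iso ((EtModW.pull Λ (g i)).mapIso e) (hl i)⟩

theorem isConstructible_of_isZero {F : EtModW.Mod Λ X} (h : IsZero F) : EtModW.IsConstructible Λ F :=
  fun U _ => adapted_of_pieces F U (fun _ : Unit => (U : Scheme.{u})) (fun _ => U.ι) (fun _ => (U : Set X))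
    (fun _ => U.range_ι.ge) (fun _ => by
      rw [show U.ι ⁻¹' (U : Set X) = Set.univ from Set.eq_univ_of_forall fun x => x.2]
      exact Topology.IsConstructible.univ)
    (Set.subset_iUnion (fun _ : Unit => (U : Set X)) ())
    (fun _ => flc_of_isZero ((EtModW.pull Λ U.ι).map_isZero h))

end GrothLib.ModConstr
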