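import Groth.Agent.Lib.EtSite.Pull
import Groth.Agent.Lib.TrivMod.Et
import Groth.Prelude.Def_FixPt
import Mathlib.Algebra.Category.ModuleCat.AB
import Mathlib.CategoryTheory.Linear.LinearFunctor

/-!
# Stalks and inverse images of étale sheaves of modules: exactness and linearity
-/

set_option autoImplicit false
set_option linter.style.haveILetI false
set_option backward.isDefEq.respectTransparency.types false

universe u

open CategoryTheory CategoryTheory.Limits AlgebraicGeometry Opposite

noncomputable section

namespace GrothLib.ModConstr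

open GrothLib.EtSite

variable {Λ : Type (u + 1)} [CommRing Λ] {X Y : Scheme.{u}}

instance ab5OfSize_shrink_modules : AB5OfSize.{u, u} (ModuleCat.{u + 1} Λ) := by
  have : AB5OfSize.{u + 1, u + 1} (ModuleCat.{u + 1} Λ) := inferInstanceAs (AB5 (ModuleCat.{u + 1} Λ))
  exact AB5OfSize_of_univLE.{u, u, u + 1, u + 1} (ModuleCat.{u + 1} Λ)

instance hasLimitsOfSize_modules : HasLimitsOfSize.{u, u} (ModuleCat.{u + 1} Λ) :=
  hasLimitsOfSizeShrink.{u, u, u + 1, u + 1} (ModuleCat.{u + 1} Λ)

instance preservesFilteredColimits_forget_modules :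
    PreservesFilteredColimitsOfSize.{u, u} (forget (ModuleCat.{u + 1} Λ)) :=
  preservesFilteredColimitsOfSize_shrink.{u, u + 1, u, u + 1} _

variable {Ω : Type u} [Field Ω] [IsSepClosed Ω] (ξ : Spec (CommRingCat.of Ω) ⟶ X)

instance preservesFiniteLimits_stalk : PreservesFiniteLimits (EtModW.stalk Λ ξ) := inferInstance

instance preservesFiniteColimits_stalk : PreservesFiniteColimits (EtModW.stalk Λ ξ) := inferInstance

instance additive_stalk : (EtModW.stalk Λ ξ).Additive :=
  Functor.additive_of_preserves_binary_products _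

instance linear_stalk : (EtModW.stalk Λ ξ).Linear Λ where
  map_smul {F G} a r := by
    refine (Scheme.pointSmallEtale ξ).presheafFiber_hom_ext fun U t => ?_
    show (Scheme.pointSmallEtale ξ).toPresheafFiber U t F.obj ≫
        (Scheme.pointSmallEtale ξ).presheafFiber.map (r • a.hom) =
      (Scheme.pointSmallEtale ξ).toPresheafFiber U t F.obj ≫
        (r • (Scheme.pointSmallEtale ξ).presheafFiber.map a.hom)
    rw [GrothendieckTopology.Point.toPresheafFiber_naturality, Linear.comp_smul,
      GrothendieckTopology.Point.toPresheafFiber_naturality]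
    exact Linear.smul_comp _ _ _ r _ _

theorem mono_of_stalks {F G : EtModW.Mod Λ X} (a : F ⟶ G)
    (h : ∀ (Ω : Type u) [Field Ω] [IsSepClosed Ω] (ξ : Spec (CommRingCat.of Ω) ⟶ X),
      Function.Injective ((EtModW.stalk Λ ξ).map a)) : Mono a := by
  haveI := TrivEt.hasSheafCompose_et Λ X
  have hinj : ∀ U : X.Etale, Function.Injective (a.hom.app (op U)) := fun U => by
    rw [injective_iff_map_eq_zero]
    intro s hs
    let R : Sieve U :=
      { arrows := fun V g => F.obj.map g.op s = 0
        downward_closed := by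
          intro V W g hg k
          rw [op_comp, Functor.map_comp, ConcreteCategory.comp_apply, hg, map_zero] }
    refine TrivMod.res_ext F (S := R) (TrivEt.mem_of_forall _ fun u => ?_) fun V g hg => by
      rw [map_zero]; exact hg
    let P : X.smallEtaleTopology.Point := Scheme.pointSmallEtale (gpt (U.hom.base u))
    obtain ⟨t, ht⟩ := exists_fib (gpt (U.hom.base u)) u (gpt_default _).symm
    have h0 : P.toPresheafFiber U t F.obj s = P.toPresheafFiber U t F.obj 0 := by
      refine h _ (gpt (U.hom.base u)) ?_
      show P.presheafFiber.map a.hom _ = P.presheafFiber.map a.hom _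
      rw [P.toPresheafFiber_naturality_apply, P.toPresheafFiber_naturality_apply, hs, map_zero (a.hom.app (op U)).hom]
    obtain ⟨V, g, v, hv, hg⟩ := (P.toPresheafFiber_eq_iff' U t s 0).1 h0
    exact ⟨V, g, _, hg.trans (map_zero _), (base_fiber_map _ g v t hv).trans ht⟩
  haveI : Sheaf.IsLocallyInjective a :=
    Sheaf.isLocallyInjective_iff_injective a |>.2 fun U => hinj U.unop
  exact Sheaf.mono_of_isLocallyInjective a

variable (f : X ⟶ Y)

/-- The stalk of an inverse image is the stalk at the image point. -/
noncomputable def pullStalkIso :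
    EtModW.pull Λ f ⋙ EtModW.stalk Λ ξ ≅ EtModW.stalk Λ (ξ ≫ f) :=
  ((Scheme.pointSmallEtale ξ).sheafFiberComapIso (EtCoh.bc f) (EtCoh.coverPreserving_bc f)
    (ModuleCat.{u + 1} Λ)).symm ≪≫
  { hom := (comapPointIso ξ f).inv.sheafFiber
    inv := (comapPointIso ξ f).hom.sheafFiber
    hom_inv_id := by
      rw [← GrothendieckTopology.Point.Hom.sheafFiber_comp, Iso.hom_inv_id,
        GrothendieckTopology.Point.Hom.sheafFiber_id]
    inv_hom_id := by
      rw [← GrothendieckTopology.Point.Hom.sheafFiber_comp, Iso.inv_hom_id,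
        GrothendieckTopology.Point.Hom.sheafFiber_id] }

theorem pull_map_mono {F G : EtModW.Mod Λ Y} (a : F ⟶ G) [Mono a] :
    Mono ((EtModW.pull Λ f).map a) := by
  refine mono_of_stalks _ fun Ω _ _ ξ => ?_
  rw [← ModuleCat.mono_iff_injective]
  exact ((MorphismProperty.monomorphisms _).arrow_mk_iso_iff
    (((Functor.mapArrowFunctor _ _).mapIso (pullStalkIso ξ f)).app (Arrow.mk a))).2
      (inferInstanceAs (Mono ((EtModW.stalk Λ (ξ ≫ f)).map a)))

instance pull_preservesFiniteLimits : PreservesFiniteLimits (EtModW.pull Λ f) := by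
  have : (EtModW.pull Λ f).PreservesMonomorphisms := ⟨fun a _ => pull_map_mono f a⟩
  have : (EtModW.pull Λ f).PreservesHomology :=
    Functor.preservesHomology_of_preservesMonos_and_cokernels _
  exact Functor.preservesFiniteLimits_of_preservesHomology _

theorem pull_exact (S : ShortComplex (EtModW.Mod Λ Y)) (hS : S.Exact) :
    (S.map (EtModW.pull Λ f)).Exact :=
  hS.map (EtModW.pull Λ f)

instance linear_pull : (EtModW.pull Λ f).Linear Λ where
  map_smul {F G} a r := by
    apply ((FixPt.pullPushAdj f).homEquiv _ _).injective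
    rw [Adjunction.homEquiv_unit, Adjunction.homEquiv_unit]
    have h := (FixPt.pullPushAdj (Λ := Λ) f).unit.naturality a
    have hlin : ∀ {A B : EtModW.Mod Λ X} (b : A ⟶ B),
        (EtModW.push Λ f).map (r • b) = r • (EtModW.push Λ f).map b := fun b => rfl
    rw [hlin, Linear.comp_smul]
    refine ((FixPt.pullPushAdj (Λ := Λ) f).unit.naturality (r • a)).symm.trans ?_
    show (r • a) ≫ _ = _
    rw [Linear.smul_comp]
    exact congrArg (r • ·) h

end GrothLib.ModConstr
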