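import Groth.Agent.Lib.ModConstr.Adic
import Groth.Agent.Lib.ModConstr.Zero
import Groth.Agent.Lib.ARSys.ShiftBound
import Groth.Agent.S6646
import Groth.Prelude.Def_WeakSerre

/-!
# A constructible adic system is lisse near each generic point
-/

set_option autoImplicit false
set_option linter.style.haveILetI false
set_option linter.unusedSectionVars false
set_option backward.isDefEq.respectTransparency.types false

universe u w v u₁

open CategoryTheory CategoryTheory.Limits AlgebraicGeometry Opposite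

noncomputable section

namespace GrothLib.ModConstr

open _root_.ARSys
open GrothLib.ARSys (expts deg mon μ)

attribute [local instance] Abelian.hasFiniteBiproducts

section Category

variable {C : Type u₁} [Category.{v} C] [Abelian C] {A : Type w} [CommRing A] [Linear A C]
  {J : Ideal A} {F : PS C} {k : ℕ} (a : Fin k → A)

/-- The sum of copies of the bottom term indexed by monomials. -/
abbrev Nob (F : PS C) (k n : ℕ) : C := ⨁ fun _ : ↥(expts k n) => F.obj (op 0)

/-- The symbol map. -/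
abbrev Psi (hF : IsAdic J F) (n : ℕ) : Nob F k n ⟶ F.obj (op n) :=
  biproduct.desc fun α : ↥(expts k n) => μ hF 0 n (mon a α.1)

/-- Multiplication by a monomial on the symbol side. -/
abbrev shiftMor (F : PS C) {i n : ℕ} (β : Lex (Fin k → ℕ)) (h : deg β + i = n) : Nob F k i ⟶ Nob F k n :=
  biproduct.desc fun α : ↥(expts k i) => biproduct.ι (fun _ : ↥(expts k n) => F.obj (op 0))
    ⟨α.1 + β, GrothLib.ARSys.mem_expts.2 (by
      rw [GrothLib.ARSys.deg_add, GrothLib.ARSys.mem_expts.1 α.2, ← h, add_comm])⟩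

theorem mon_mem_pow (hJ : J = Ideal.span (Set.range a)) {n : ℕ} {α : Lex (Fin k → ℕ)} (h : deg α = n) :
    mon a α ∈ J ^ n :=
  h ▸ GrothLib.ARSys.mon_mem a fun j => hJ ▸ Ideal.subset_span ⟨j, rfl⟩

theorem shiftMor_Psi (hF : IsAdic J F) (hJ : J = Ideal.span (Set.range a)) {i n : ℕ}
    (β : Lex (Fin k → ℕ)) (h : deg β + i = n) :
    shiftMor F β h ≫ Psi a hF n = Psi a hF i ≫ μ hF i n (mon a β) := by
  ext α
  simp only [biproduct.ι_desc_assoc, biproduct.ι_desc]
  rw [GrothLib.ARSys.μ_comp hF (Nat.zero_le i) (by omega)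
    (mon_mem_pow a hJ (GrothLib.ARSys.mem_expts.1 α.2) : mon a α.1 ∈ J ^ (i - 0))
    (mon_mem_pow a hJ (show deg β = n - i by omega)), GrothLib.ARSys.mon_add, mul_comm]

theorem kernel_shiftMor_Psi (hF : IsAdic J F) (hJ : J = Ideal.span (Set.range a)) {i n : ℕ}
    (β : Lex (Fin k → ℕ)) (h : deg β + i = n) :
    kernel.ι (Psi a hF i) ≫ shiftMor F β h ≫ Psi a hF n = 0 := by
  rw [shiftMor_Psi a hF hJ, kernel.condition_assoc, zero_comp]

theorem Psi_tr (hF : IsAdic J F) (hJ : J = Ideal.span (Set.range a)) (n : ℕ) :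
    Psi a hF (n + 1) ≫ tr F (Nat.le_succ n) = 0 := by
  ext α
  haveI := GrothLib.ARSys.IsQuot.epi (hF.2 0 (n + 1) (Nat.zero_le _))
  have hc : mon a α.1 ∈ J ^ (n + 1) := mon_mem_pow a hJ (GrothLib.ARSys.mem_expts.1 α.2)
  simp only [biproduct.ι_desc_assoc, comp_zero]
  rw [← cancel_epi (tr F (Nat.zero_le (n + 1))), ← Category.assoc,
    GrothLib.ARSys.tr_μ hF (Nat.zero_le (n + 1)) hc, comp_zero, GrothLib.ARSys.act_comm,
    GrothLib.ARSys.act, hF.1 n _ hc, comp_zero]

theorem exact_Psi_tr (hF : IsAdic J F) (hJ : J = Ideal.span (Set.range a)) (n : ℕ) :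
    (ShortComplex.mk (Psi a hF (n + 1)) (tr F (Nat.le_succ n)) (Psi_tr a hF hJ n)).Exact := by
  haveI := GrothLib.ARSys.IsQuot.epi (hF.2 n (n + 1) (Nat.le_succ n))
  refine ShortComplex.exact_of_g_is_cokernel _ (CokernelCofork.IsColimit.ofπ' _ _ fun φ hφ => ?_)
  have hk : HomKilledBy (J ^ (n + 1)) φ := fun c hc => by
    refine Submodule.span_induction (p := fun x _ => x • φ = 0) ?_ (zero_smul A φ)
      (fun x y _ _ hx hy => by rw [add_smul, hx, hy, add_zero])
      (fun r x _ hx => by rw [smul_eq_mul, mul_smul, hx, smul_zero])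
      (GrothLib.ARSys.pow_le_span_mon a hJ (n + 1) hc)
    rintro _ ⟨α, hα, rfl⟩
    have h0 : μ hF 0 (n + 1) (mon a α) ≫ φ = 0 := by
      simpa using congrArg (fun t => biproduct.ι (fun _ : ↥(expts k (n + 1)) => F.obj (op 0)) ⟨α, hα⟩ ≫ t) hφ
    have h1 : GrothLib.ARSys.act (mon a α) (F.obj (op (n + 1))) ≫ φ = 0 := by
      rw [← GrothLib.ARSys.tr_μ hF (Nat.zero_le (n + 1))
        (mon_mem_pow a hJ (GrothLib.ARSys.mem_expts.1 hα) : mon a α ∈ J ^ (n + 1 - 0)), Category.assoc, h0, comp_zero]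
    rwa [GrothLib.ARSys.act, Linear.smul_comp, Category.id_comp] at h1
  exact ⟨GrothLib.ARSys.IsQuot.desc (hF.2 n (n + 1) (Nat.le_succ n)) φ hk, GrothLib.ARSys.IsQuot.fac _ φ hk⟩

/-- Relations in degree `n` coming from those of degree at most `d`. -/
abbrev DIdx (k d n : ℕ) : Type := Σ i : {i : Fin (d + 1) // i.1 ≤ n}, ↥(expts k (n - i.1.1))

theorem deg_DIdx {d n : ℕ} (p : DIdx k d n) : deg p.2.1 + p.1.1.1 = n := by
  rw [GrothLib.ARSys.mem_expts.1 p.2.2]
  have := p.1.2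
  omega

/-- The shifted relations. -/
abbrev Dn (hF : IsAdic J F) (d n : ℕ) : (⨁ fun p : DIdx k d n => kernel (Psi a hF p.1.1.1)) ⟶ Nob F k n :=
  biproduct.desc fun p => kernel.ι (Psi a hF p.1.1.1) ≫ shiftMor F p.2.1 (deg_DIdx p)

theorem Dn_Psi (hF : IsAdic J F) (hJ : J = Ideal.span (Set.range a)) (d n : ℕ) :
    Dn a hF d n ≫ Psi a hF n = 0 := by
  refine biproduct.hom_ext' _ _ fun p => ?_
  rw [biproduct.ι_desc_assoc, Category.assoc, comp_zero]
  exact kernel_shiftMor_Psi a hF hJ _ _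

end Category

section Et

variable {X : Scheme.{u}} {Λ : Type (u + 1)} [CommRing Λ] [IsNoetherianRing Λ]

theorem isWeakSerre_flc : WSerre.IsWeakSerre (fun F : EtModW.Mod Λ X => EtModW.IsFTLocConst Λ F) := by
  obtain ⟨h, hext⟩ := Groth.Agent.S6646.result Λ X
  refine { exists_zero := ?_, kernels_le := ?_, cokernels_le := ?_, toIsClosedUnderExtensions := hext }
  · obtain ⟨Z, hZ⟩ := HasZeroObject.zero (C := EtModW.Mod Λ X)
    exact ⟨Z, hZ, flc_of_isZero hZ⟩
  · rintro K ⟨f, ι, hι, ⟨h₁, h₂⟩⟩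
    exact flc_of_iso ((kernelIsKernel f).conePointUniqueUpToIso hι) (h _ _ f h₁ h₂).1
  · rintro K ⟨f, π, hπ, ⟨h₁, h₂⟩⟩
    exact flc_of_iso ((cokernelIsCokernel f).coconePointUniqueUpToIso hπ) (h _ _ f h₁ h₂).2

theorem flc_biproduct {ι : Type} [Fintype ι] (G : ι → EtModW.Mod Λ X) (h : ∀ i, EtModW.IsFTLocConst Λ (G i)) :
    EtModW.IsFTLocConst Λ (⨁ G) := by
  let P : ObjectProperty (EtModW.Mod Λ X) := fun F => EtModW.IsFTLocConst Λ F
  haveI : WSerre.IsWeakSerre P := isWeakSerre_flc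
  haveI : P.IsClosedUnderLimitsOfShape (Discrete ι) :=
    ObjectProperty.IsClosedUnderFiniteProducts.isClosedUnderLimitsOfShape ι
  exact P.prop_of_isLimit (biproduct.isLimit G) fun j => h j.as

theorem flc_pull_biproduct {T : Scheme.{u}} (g : T ⟶ X) {ι : Type} [Fintype ι] (G : ι → EtModW.Mod Λ X)
    (h : ∀ i, EtModW.IsFTLocConst Λ ((EtModW.pull Λ g).obj (G i))) :
    EtModW.IsFTLocConst Λ ((EtModW.pull Λ g).obj (⨁ G)) := by
  haveI : PreservesBiproduct G (EtModW.pull Λ g) := preservesBiproduct_of_preservesProduct _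
  exact flc_of_iso ((EtModW.pull Λ g).mapBiproduct G).symm (flc_biproduct _ h)

theorem finite_stalk_of_flc {F : EtModW.Mod Λ X} (hF : EtModW.IsFTLocConst Λ F) {Ω : Type u} [Field Ω]
    [IsSepClosed Ω] (ξ : Spec (CommRingCat.of Ω) ⟶ X) : Module.Finite Λ ((EtModW.stalk Λ ξ).obj F) := by
  obtain ⟨V, v, hv, M, _, _, hM, m, hm⟩ := GrothLib.TrivEt.exists_triv_of_isFTLocConst hF (ξ.base default)
  obtain ⟨s, -⟩ := GrothLib.EtSite.exists_fib ξ v hv
  exact Module.Finite.of_surjective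
    (((Scheme.pointSmallEtale ξ).toPresheafFiber V s F.obj).hom.comp m)
    (GrothLib.TrivEt.bijective_germ ξ hm s).2

/-- At a point, the relations are generated in bounded degree. -/
theorem exists_bound_stalk {I : Ideal Λ} {F : PS (EtModW.Mod Λ X)} (hF : IsAdic I F) {k : ℕ} (a : Fin k → Λ)
    (h0 : EtModW.IsFTLocConst Λ (F.obj (op 0)))
    {Ω : Type u} [Field Ω] [IsSepClosed Ω] (ξ : Spec (CommRingCat.of Ω) ⟶ X) :
    ∃ d : ℕ, ∀ n, d < n →
      (EtModW.stalk Λ ξ).map (kernel.ι (Psi a hF n) ≫ cokernel.π (Dn a hF d n)) = 0 := by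
  classical
  let G := EtModW.stalk Λ ξ
  let M : Type (u + 1) := G.obj (F.obj (op 0))
  haveI : Module.Finite Λ M := finite_stalk_of_flc h0 ξ
  let E : ∀ n, (↥(expts k n) → M) →ₗ[Λ] G.obj (Nob F k n) := fun n =>
    ∑ α : ↥(expts k n), (G.map (biproduct.ι (fun _ : ↥(expts k n) => F.obj (op 0)) α)).hom.comp (LinearMap.proj α)
  have hEsingle : ∀ n (α : ↥(expts k n)) (m : M),
      E n (LinearMap.single Λ (fun _ => M) α m) = G.map (biproduct.ι (fun _ : ↥(expts k n) => F.obj (op 0)) α) m :=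
    fun n α m => by
      simp only [E, LinearMap.sum_apply, LinearMap.comp_apply, LinearMap.proj_apply, LinearMap.single_apply]
      rw [Finset.sum_eq_single α]
      · rw [Pi.single_eq_same]
      · intro b _ hb
        rw [Pi.single_eq_of_ne hb, map_zero]
      · simp
  have hEsurj : ∀ n (z : G.obj (Nob F k n)), ∃ x, E n x = z := fun n z => by
    refine ⟨fun α => G.map (biproduct.π (fun _ : ↥(expts k n) => F.obj (op 0)) α) z, ?_⟩
    have := congrArg (fun f => (G.map f) z) (biproduct.total (f := fun _ : ↥(expts k n) => F.obj (op 0)))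
    simp only [Functor.map_sum, Functor.map_comp, CategoryTheory.Functor.map_id] at this
    simpa [E, M] using this
  have hshift : ∀ {i n : ℕ} (β : Lex (Fin k → ℕ)) (h : deg β + i = n) (y : ↥(expts k i) → M),
      G.map (shiftMor F β h) (E i y) = E n (GrothLib.ARSys.shiftLin (R := Λ) β h y) := fun {i n} β h y => by
    have hEy : E i y = ∑ α : ↥(expts k i), G.map (biproduct.ι (fun _ : ↥(expts k i) => F.obj (op 0)) α) (y α) := by
      simp only [E, LinearMap.sum_apply, LinearMap.comp_apply, LinearMap.proj_apply]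
    rw [hEy, map_sum]
    simp only [GrothLib.ARSys.shiftLin, LinearMap.sum_apply, LinearMap.comp_apply, LinearMap.proj_apply, map_sum]
    refine Finset.sum_congr rfl fun α _ => Eq.trans ?_ (hEsingle n _ (y α)).symm
    refine (ConcreteCategory.congr_hom (G.map_comp _ _).symm (y α)).trans ?_
    rw [biproduct.ι_desc]
  let φ : ∀ n, (↥(expts k n) → M) →ₗ[Λ] G.obj (F.obj (op n)) := fun n =>
    (G.map (Psi a hF n)).hom.comp (E n)
  obtain ⟨d, hd⟩ := GrothLib.ARSys.exists_degree_bound (R := Λ) (M := M) (k := k) fun n => LinearMap.ker (φ n)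
  refine ⟨d, fun n hn => ?_⟩
  refine ModuleCat.hom_ext (LinearMap.ext fun z => ?_)
  obtain ⟨x, hx⟩ := hEsurj n (G.map (kernel.ι (Psi a hF n)) z)
  have hxk : x ∈ LinearMap.ker (φ n) := by
    rw [LinearMap.mem_ker]
    show G.map (Psi a hF n) (E n x) = 0
    rw [hx]
    refine (ConcreteCategory.congr_hom (G.map_comp _ _).symm z).trans ?_
    rw [kernel.condition, Functor.map_zero]
    rfl
  have hle := hd n hn ((LinearMap.range (G.map (Dn a hF d n)).hom).comap (E n)) (fun i β h hi y hy => ?_) hxk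
  · obtain ⟨s, hs⟩ := hle
    refine (ConcreteCategory.congr_hom (G.map_comp _ _) z).trans ?_
    show G.map (cokernel.π (Dn a hF d n)) (G.map (kernel.ι (Psi a hF n)) z) = 0
    rw [← hx, ← hs]
    refine (ConcreteCategory.congr_hom (G.map_comp _ _).symm s).trans ?_
    rw [cokernel.condition, Functor.map_zero]
    rfl
  · have hex := (ShortComplex.exact_kernel (Psi a hF i)).map G
    obtain ⟨y', hy'⟩ := ((ShortComplex.moduleCat_exact_iff _).1 hex) (E i y) (LinearMap.mem_ker.1 hy)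
    let p : DIdx k d n := ⟨⟨⟨i, by omega⟩, by show i ≤ n; omega⟩, ⟨β, GrothLib.ARSys.mem_expts.2 (show deg β = n - i by omega)⟩⟩
    refine ⟨G.map (biproduct.ι (fun p : DIdx k d n => kernel (Psi a hF p.1.1.1)) p) y', ?_⟩
    refine (ConcreteCategory.congr_hom (G.map_comp _ _).symm y').trans ?_
    rw [biproduct.ι_desc, G.map_comp]
    show G.map (shiftMor F β (deg_DIdx p)) (G.map (kernel.ι (Psi a hF i)) y') = _
    rw [show G.map (kernel.ι (Psi a hF i)) y' = E i y from hy', hshift]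

/-- Exactness near the generic point, from exactness at the generic point. -/
theorem exact_pull_of_generic (t : X) (hgen : ∀ O : Set X, IsOpen O → O.Nonempty → t ∈ O) (O : X.Opens) (htO : t ∈ O)
    {A B C : EtModW.Mod Λ X} (f : A ⟶ B) (g : B ⟶ C) (w : f ≫ g = 0)
    (hA : EtModW.IsFTLocConst Λ ((EtModW.pull Λ O.ι).obj A)) (hB : EtModW.IsFTLocConst Λ ((EtModW.pull Λ O.ι).obj B))
    (hz : (EtModW.stalk Λ (GrothLib.EtSite.gpt t)).map (kernel.ι g ≫ cokernel.π f) = 0) :
    ((ShortComplex.mk f g w).map (EtModW.pull Λ O.ι)).Exact := by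
  have hgenO : ∀ O' : Set ↥(O : Scheme.{u}), IsOpen O' → O'.Nonempty → (⟨t, htO⟩ : ↥(O : Scheme.{u})) ∈ O' :=
    fun O' hO' ⟨z, hz⟩ => by
      obtain ⟨z', hz', he⟩ := hgen _ (O.ι.isOpenEmbedding.isOpenMap _ hO') ⟨_, z, hz, rfl⟩
      have e' : z' = (⟨t, htO⟩ : ↥(O : Scheme.{u})) :=
        O.ι.isOpenEmbedding.injective (he : O.ι z' = O.ι (⟨t, htO⟩ : ↥(O : Scheme.{u})))
      exact e' ▸ hz'
  obtain ⟨τ₀, hτ₀, hτ₀t⟩ := GrothLib.Constructible.exists_point_lift O.ι (GrothLib.EtSite.gpt t)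
    (⟨t, htO⟩ : ↥(O : Scheme.{u})) (GrothLib.EtSite.gpt_default t).symm
  have hcok : EtModW.IsFTLocConst Λ ((EtModW.pull Λ O.ι).obj (cokernel f)) :=
    flc_of_iso (PreservesCokernel.iso (EtModW.pull Λ O.ι) f).symm
      ((Groth.Agent.S6646.result Λ (O : Scheme.{u})).1 _ _ _ hA hB).2
  have hzero : (EtModW.pull Λ O.ι).map (kernel.ι g ≫ cokernel.π f) = 0 := by
    refine map_eq_zero_of_generic _ hcok (⟨t, htO⟩ : ↥(O : Scheme.{u})) hgenO τ₀ hτ₀t ?_
    rw [stalk_pull_map_eq_zero, hτ₀]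
    exact hz
  rw [ShortComplex.exact_iff_kernel_ι_comp_cokernel_π_zero]
  show kernel.ι ((EtModW.pull Λ O.ι).map g) ≫ cokernel.π ((EtModW.pull Λ O.ι).map f) = 0
  rw [← PreservesKernel.iso_inv_ι, Category.assoc, ← PreservesCokernel.π_iso_hom,
    ← Functor.map_comp_assoc, hzero, zero_comp, comp_zero]

/-- A term between finite type locally constant ones. -/
theorem flc_of_exact₃ {A B C E : EtModW.Mod Λ X} (f : A ⟶ B) (g : B ⟶ C) (h : C ⟶ E) (w₁ : f ≫ g = 0) (w₂ : g ≫ h = 0)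
    (e₁ : (ShortComplex.mk f g w₁).Exact) (e₂ : (ShortComplex.mk g h w₂).Exact) [Epi h]
    (hA : EtModW.IsFTLocConst Λ A) (hB : EtModW.IsFTLocConst Λ B) (hE : EtModW.IsFTLocConst Λ E) :
    EtModW.IsFTLocConst Λ C := by
  have hc := ((Groth.Agent.S6646.result Λ X).1 _ _ f hA hB).2
  haveI : Mono (cokernel.desc f g w₁) := by
    have hm := (ShortComplex.exact_iff_mono_cokernel_desc (ShortComplex.mk f g w₁)).1 e₁
    exact hm
  have hw : cokernel.desc f g w₁ ≫ h = 0 := by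
    rw [← cancel_epi (cokernel.π f), cokernel.π_desc_assoc, comp_zero, w₂]
  have hT : (ShortComplex.mk _ _ hw).ShortExact := by
    refine @ShortComplex.ShortExact.mk' _ _ _ (ShortComplex.mk _ _ hw) ?_ (by assumption) (by assumption)
    let ψ : ShortComplex.mk g h w₂ ⟶ ShortComplex.mk _ _ hw :=
      { τ₁ := cokernel.π f
        τ₂ := 𝟙 _
        τ₃ := 𝟙 _
        comm₁₂ := by simp
        comm₂₃ := by simp }
    haveI : Epi ψ.τ₁ := inferInstanceAs (Epi (cokernel.π _))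
    haveI : IsIso ψ.τ₂ := inferInstanceAs (IsIso (𝟙 _))
    haveI : Mono ψ.τ₃ := inferInstanceAs (Mono (𝟙 _))
    exact (ShortComplex.exact_iff_of_epi_of_isIso_of_mono ψ).1 e₂
  exact (Groth.Agent.S6646.result Λ X).2.prop_X₂_of_shortExact hT hc hE

/-- The inductive step. -/
theorem flc_succ_of_syzygy {I : Ideal Λ} {F : PS (EtModW.Mod Λ X)} (hF : IsAdic I F) {k : ℕ} (a : Fin k → Λ)
    (hJ : I = Ideal.span (Set.range a)) {T : Scheme.{u}} (g : T ⟶ X) (n : ℕ) {S : EtModW.Mod Λ X}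
    (D : S ⟶ Nob F k (n + 1)) (hD : D ≫ Psi a hF (n + 1) = 0)
    (hS : EtModW.IsFTLocConst Λ ((EtModW.pull Λ g).obj S))
    (hN : EtModW.IsFTLocConst Λ ((EtModW.pull Λ g).obj (Nob F k (n + 1))))
    (hex : ((ShortComplex.mk D (Psi a hF (n + 1)) hD).map (EtModW.pull Λ g)).Exact)
    (ih : EtModW.IsFTLocConst Λ ((EtModW.pull Λ g).obj (F.obj (op n)))) :
    EtModW.IsFTLocConst Λ ((EtModW.pull Λ g).obj (F.obj (op (n + 1)))) := by
  haveI := GrothLib.ARSys.IsQuot.epi (hF.2 n (n + 1) (Nat.le_succ n))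
  haveI : Epi ((EtModW.pull Λ g).map (tr F (Nat.le_succ n))) := inferInstance
  exact flc_of_exact₃ _ _ _ _ _ hex (pull_exact g _ (exact_Psi_tr a hF hJ n)) hS hN ih

/-- A system with lisse bottom term is lisse near the generic point. -/
theorem exists_open_flc_adic {I : Ideal Λ} {F : PS (EtModW.Mod Λ X)} (hF : IsAdic I F)
    (h0 : EtModW.IsFTLocConst Λ (F.obj (op 0))) (t : X)
    (hgen : ∀ O : Set X, IsOpen O → O.Nonempty → t ∈ O) :
    ∃ O : X.Opens, t ∈ O ∧ ∀ n : ℕ, EtModW.IsFTLocConst Λ ((EtModW.pull Λ O.ι).obj (F.obj (op n))) := by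
  classical
  obtain ⟨k, a, ha⟩ := Submodule.fg_iff_exists_fin_generating_family.1 (IsNoetherian.noetherian I)
  have hJ : I = Ideal.span (Set.range a) := ha.symm
  obtain ⟨d, hd⟩ := exists_bound_stalk hF a h0 (GrothLib.EtSite.gpt t)
  have hN : ∀ {T : Scheme.{u}} (g : T ⟶ X) (n : ℕ), EtModW.IsFTLocConst Λ ((EtModW.pull Λ g).obj (Nob F k n)) :=
    fun g n => flc_pull_biproduct g _ fun _ => GrothLib.LocConst.isFTLocConst_pull Λ g _ h0
  choose Oi hti hOi using fun i : Fin (d + 1) =>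
    exists_flc_nhd_sub (kernel.ι (Psi a hF i.1)) (flc_biproduct _ fun _ => h0) t hgen
  let O : X.Opens := Finset.univ.inf Oi
  have htO : t ∈ O := by
    rw [← SetLike.mem_coe, TopologicalSpace.Opens.coe_finset_inf]
    simpa using hti
  have hR : ∀ i, i ≤ d → EtModW.IsFTLocConst Λ ((EtModW.pull Λ O.ι).obj (kernel (Psi a hF i))) := fun i hi =>
    flc_of_fac (X.homOfLE (Finset.inf_le (Finset.mem_univ (⟨i, by omega⟩ : Fin (d + 1))))) _ O.ι
      (Scheme.homOfLE_ι X _) _ (hOi ⟨i, by omega⟩)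
  refine ⟨O, htO, fun n => ?_⟩
  induction n with
  | zero => exact GrothLib.LocConst.isFTLocConst_pull Λ O.ι _ h0
  | succ n ih =>
    rcases le_or_gt (n + 1) d with hn | hn
    · exact flc_succ_of_syzygy hF a hJ O.ι n (kernel.ι _) (kernel.condition _) (hR _ hn) (hN _ _)
        (pull_exact O.ι _ (ShortComplex.exact_kernel _)) ih
    · have hS := flc_pull_biproduct O.ι (fun p : DIdx k d (n + 1) => kernel (Psi a hF p.1.1.1))
        fun p => hR _ (by have := p.1.1.2; omega)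
      exact flc_succ_of_syzygy hF a hJ O.ι n (Dn a hF d (n + 1)) (Dn_Psi a hF hJ d (n + 1)) hS (hN _ _)
        (exact_pull_of_generic t hgen O htO _ _ _ hS (hN _ _) (hd _ hn)) ih

end Et

end GrothLib.ModConstr
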