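import Groth.Agent.Lib.ARSys.FamilyCriterion
import Groth.Agent.Lib.ModConstr.AdicLisse
import Groth.Agent.Lib.TrivMod.Special

/-!
# Adic systems up to translation are detected locally
-/

set_option autoImplicit false
set_option linter.style.haveILetI false
set_option linter.unusedSectionVars false
set_option backward.isDefEq.respectTransparency.types false

universe u w v

open CategoryTheory CategoryTheory.Limits AlgebraicGeometry Opposite

noncomputable section

namespace GrothLib.ModConstr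

open _root_.ARSys

/-- Everything is a weak Serre class. -/
theorem isWeakSerre_top {C : Type w} [Category.{v} C] [Abelian C] :
    WSerre.IsWeakSerre (fun _ : C => True) where
  exists_zero := ⟨_, (HasZeroObject.zero (C := C)).choose_spec, trivial⟩
  kernels_le := fun _ _ => trivial
  cokernels_le := fun _ _ => trivial
  prop_X₂_of_shortExact := fun _ _ _ => trivial

variable {X : Scheme.{u}} {Λ : Type (u + 1)} [CommRing Λ]

/-- Inverse images along maps covering all points are jointly faithful. -/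
theorem eq_zero_of_pull {ι : Type} (T : ι → Scheme.{u}) (g : ∀ i, T i ⟶ X)
    (hlift : ∀ (Ω : Type u) [Field Ω] [IsSepClosed Ω] (ξ : Spec (CommRingCat.of Ω) ⟶ X),
      ∃ (i : ι) (ζ : Spec (CommRingCat.of Ω) ⟶ T i), ζ ≫ g i = ξ)
    {F G : EtModW.Mod Λ X} (φ : F ⟶ G) (h : ∀ i, (EtModW.pull Λ (g i)).map φ = 0) : φ = 0 :=
  zero_of_stalks φ fun Ω _ _ ξ => by
    obtain ⟨i, ζ, rfl⟩ := hlift Ω ξ
    rw [← stalk_pull_map_eq_zero, h i, Functor.map_zero]

/-- On a connected Noetherian scheme a property of points stable under specialisation both ways is constant. -/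
theorem forall_of_specializes {T : Type u} [TopologicalSpace T] [TopologicalSpace.NoetherianSpace T]
    [QuasiSober T] [PreconnectedSpace T] (P : T → Prop) (h : ∀ x y : T, y ⤳ x → (P x ↔ P y))
    (s : T) (hs : P s) (x : T) : P x := by
  have key : ∀ Q : T → Prop, (∀ x y : T, y ⤳ x → (Q x ↔ Q y)) → IsClosed {x | Q x} := fun Q hQ => by
    have e : {x | Q x} = ⋃ Z ∈ {Z ∈ irreducibleComponents T | ∃ z ∈ Z, Q z}, Z := by
      ext x
      simp only [Set.mem_setOf_eq, Set.mem_iUnion, exists_prop]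
      refine ⟨fun hx => ⟨_, ⟨irreducibleComponent_mem_irreducibleComponents x, x, mem_irreducibleComponent, hx⟩,
        mem_irreducibleComponent⟩, ?_⟩
      rintro ⟨Z, ⟨hZ, z, hzZ, hz⟩, hxZ⟩
      obtain ⟨η, hη⟩ := QuasiSober.sober hZ.1 (isClosed_of_mem_irreducibleComponents Z hZ)
      exact (hQ x η (hη.specializes hxZ)).2 ((hQ z η (hη.specializes hzZ)).1 hz)
    rw [e]
    exact (TopologicalSpace.NoetherianSpace.finite_irreducibleComponents.subset fun Z hZ => hZ.1).isClosed_biUnion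
      fun Z hZ => isClosed_of_mem_irreducibleComponents Z hZ.1
  have hc : IsClopen {x | P x} :=
    ⟨key P h, isClosed_compl_iff.1 (key (fun x => ¬ P x) fun x y hxy => not_congr (h x y hxy))⟩
  exact (hc.eq_univ ⟨s, hs⟩).ge (Set.mem_univ x)

variable [IsNoetherianRing Λ]

/-- On a connected scheme a map of locally constant sheaves vanishing at one point vanishes. -/
theorem eq_zero_of_stalk [IsNoetherian X] [ConnectedSpace X] {Ω : Type u} [Field Ω] [IsSepClosed Ω]
    (ξ : Spec (CommRingCat.of Ω) ⟶ X) {F G : EtModW.Mod Λ X} (hF : EtModW.IsFTLocConst Λ F)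
    (hG : EtModW.IsFTLocConst Λ G) (φ : F ⟶ G) (h : (EtModW.stalk Λ ξ).map φ = 0) : φ = 0 := by
  let D : ComposableArrows (EtModW.Mod Λ X) 1 := ComposableArrows.mk₁ φ
  have hD : ∀ j, ∀ x : X, ∃ (V : X.Etale) (v : V.left), V.hom v = x ∧ ∃ (M : Type (u + 1)) (_ : AddCommGroup M)
      (_ : Module Λ M) (m : M →ₗ[Λ] (D.obj j).obj.obj (op V)),
      GrothLib.TrivMod.IsTriv X.smallEtaleTopology (D.obj j) V m := by
    intro j x
    fin_cases j
    · obtain ⟨V, v, hv, M, i₁, i₂, -, m, hm⟩ := GrothLib.TrivEt.exists_triv_of_isFTLocConst hF x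
      exact ⟨V, v, hv, M, i₁, i₂, m, hm⟩
    · obtain ⟨V, v, hv, M, i₁, i₂, -, m, hm⟩ := GrothLib.TrivEt.exists_triv_of_isFTLocConst hG x
      exact ⟨V, v, hv, M, i₁, i₂, m, hm⟩
  have inv : ∀ {K K' : ComposableArrows (ModuleCat.{u + 1} Λ) 1} (e : K ≅ K'), K.hom = 0 → K'.hom = 0 := by
    intro K K' e hK
    rw [← cancel_epi (e.hom.app 0), comp_zero]
    exact (e.hom.naturality _).symm.trans (by rw [show K.map _ = 0 from hK, zero_comp])
  let P : X → Prop := fun x => ∀ (Ω' : Type u) [Field Ω'] [IsSepClosed Ω'] (ζ : Spec (CommRingCat.of Ω') ⟶ X),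
    ζ.base default = x → (EtModW.stalk Λ ζ).map φ = 0
  have same : ∀ {Ω₁ : Type u} [Field Ω₁] [IsSepClosed Ω₁] (ζ₁ : Spec (CommRingCat.of Ω₁) ⟶ X)
      {Ω₂ : Type u} [Field Ω₂] [IsSepClosed Ω₂] (ζ₂ : Spec (CommRingCat.of Ω₂) ⟶ X),
      ζ₂.base default ⤳ ζ₁.base default → ((EtModW.stalk Λ ζ₁).map φ = 0 ↔ (EtModW.stalk Λ ζ₂).map φ = 0) := by
    intro Ω₁ _ _ ζ₁ Ω₂ _ _ ζ₂ hsp
    obtain ⟨e⟩ := GrothLib.TrivEt.nonempty_iso_of_specializes ζ₁ ζ₂ D hD hsp
    exact ⟨fun h1 => inv e h1, fun h2 => inv e.symm h2⟩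
  have hP : ∀ x y : X, y ⤳ x → (P x ↔ P y) := by
    intro x y hxy
    refine ⟨fun hx Ω' _ _ ζ hζ => (same (GrothLib.EtSite.gpt x) ζ ?_).1 (hx _ _ (GrothLib.EtSite.gpt_default x)),
      fun hy Ω' _ _ ζ hζ => (same ζ (GrothLib.EtSite.gpt y) ?_).2 (hy _ _ (GrothLib.EtSite.gpt_default y))⟩
    · rw [hζ, GrothLib.EtSite.gpt_default]; exact hxy
    · rw [hζ, GrothLib.EtSite.gpt_default]; exact hxy
  have hs : P (ξ.base default) := fun Ω' _ _ ζ hζ => (same ζ ξ (by rw [hζ])).2 h
  exact zero_of_stalks φ fun Ω' _ _ ζ => forall_of_specializes P hP _ hs (ζ.base default) Ω' ζ rfl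

end GrothLib.ModConstr
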