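import Groth.Agent.Lib.ModConstr.Strata
import Groth.Agent.Lib.Constructible.Noetherian

/-!
# Constructible sheaves of modules on Noetherian schemes
-/

universe u

open CategoryTheory CategoryTheory.Limits AlgebraicGeometry Opposite Topology

set_option backward.isDefEq.respectTransparency.types false
set_option linter.style.haveILetI false

noncomputable section

namespace GrothLib.ModConstr

open GrothLib.Constructible (exists_generators isConstructible_preimage_of_fac affine_nhd isConstructible_of_isOpen_of_noetherian)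

variable {X : Scheme.{u}} {Λ : Type (u + 1)} [CommRing Λ]

def GenericFLC (F : EtModW.Mod Λ X) (x : X) : Prop :=
  ∃ (V : X.Opens) (T : Scheme.{u}) (g : T ⟶ X), IsImmersion g ∧ x ∈ V ∧
    Set.range g.base = (V : Set X) ∩ closure {x} ∧
    EtModW.IsFTLocConst Λ ((EtModW.pull Λ g).obj F)

/-- Pointwise criterion for constructibility. -/
theorem isConstructible_of_generic [IsLocallyNoetherian X] (F : EtModW.Mod Λ X)
    (h : ∀ x, GenericFLC F x) : EtModW.IsConstructible Λ F := fun U hU => by
  haveI : IsAffine (U : Scheme.{u}) := hU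
  haveI : IsNoetherian (U : Scheme.{u}) := {}
  haveI : TopologicalSpace.NoetherianSpace ↥(U : Scheme.{u}) := inferInstance
  choose V T g himm hxV hrange hflc using fun x : ↥(U : Scheme.{u}) => h (U.ι x)
  have hcons : ∀ x, IsConstructible (U.ι ⁻¹' Set.range (g x)) := fun x => by
    rw [hrange x, Set.preimage_inter]
    refine IsConstructible.inter ?_ ?_
    · exact isConstructible_of_isOpen_of_noetherian ((V x).2.preimage U.ι.continuous)
    · refine IsConstructible.of_compl ?_
      exact isConstructible_of_isOpen_of_noetherian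
        (isClosed_closure.preimage U.ι.continuous).isOpen_compl
  obtain ⟨t, ht⟩ := @IsCompact.elim_finite_subcover ↥(U : Scheme.{u}) (constructibleTopology _) Set.univ _
    (GrothLib.Constr.isCompact_constructibleTopology_of_isClosed
      (@isClosed_univ ↥(U : Scheme.{u}) (constructibleTopology _)))
    (fun x => U.ι ⁻¹' Set.range (g x))
    (fun x => (GrothLib.Constr.isOpen_constructibleTopology_of_isConstructible (hcons x)).1)
    (fun x _ => Set.mem_iUnion.2 ⟨x, by
      rw [Set.mem_preimage, hrange x]
      exact ⟨hxV x, subset_closure rfl⟩⟩)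
  let e := t.equivFin.symm
  exact adapted_of_pieces F U (fun k : Fin t.card => T (e k).1) (fun k => g (e k).1)
    (fun k => Set.range (g (e k).1)) (fun k => le_rfl) (fun k => hcons _)
    (fun x hx => by
      obtain ⟨i, hi, hxi⟩ := Set.mem_iUnion₂.1 (ht (Set.mem_univ (⟨x, hx⟩ : ↥(U : Scheme.{u}))))
      obtain ⟨k, hk⟩ := e.surjective ⟨i, hi⟩
      exact Set.mem_iUnion.2 ⟨k, by rw [show (e k).1 = i from congrArg Subtype.val hk]; exact hxi⟩)
    (fun k => hflc _)

/-- Constructible sheaves satisfy the pointwise criterion. -/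
theorem generic_of_isConstructible [IsLocallyNoetherian X] (F : EtModW.Mod Λ X)
    (hF : EtModW.IsConstructible Λ F) (x : X) : GenericFLC F x := by
  obtain ⟨U, hU, hxU, -⟩ := affine_nhd (X := X) isOpen_univ (Set.mem_univ x)
  obtain ⟨n, T, g, himm, -, -, hcov, hflc⟩ := hF U hU
  obtain ⟨i, t, ht⟩ := Set.mem_iUnion.1 (hcov.ge hxU)
  haveI := himm i
  let Z : TopologicalSpace.Closeds ↥(T i) :=
    ⟨(g i) ⁻¹' closure {x}, isClosed_closure.preimage (g i).continuous⟩
  let I := Scheme.IdealSheafData.vanishingIdeal Z
  refine ⟨U ⊓ (g i).coborderRange, I.subscheme, I.subschemeι ≫ g i, inferInstance,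
    ⟨hxU, subset_coborder ⟨t, ht⟩⟩, ?_, flc_of_fac I.subschemeι (g i) _ rfl F (hflc i)⟩
  have hr : Set.range (I.subschemeι ≫ g i) = g i '' (g i ⁻¹' closure {x}) := by
    rw [show Set.range (I.subschemeι ≫ g i) = g i '' Set.range I.subschemeι from
      Set.range_comp (g i) I.subschemeι, Scheme.IdealSheafData.range_subschemeι,
      Scheme.IdealSheafData.coe_support_vanishingIdeal]
    rfl
  refine hr.trans ?_
  rw [Set.image_preimage_eq_inter_range]
  ext y
  constructor
  · rintro ⟨hy, hy'⟩
    exact ⟨⟨range_immersion_subset (F := F) hcov i hy', subset_coborder hy'⟩, hy⟩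
  · rintro ⟨⟨-, hy⟩, hy'⟩
    refine ⟨hy', ?_⟩
    have : y ∈ closure (Set.range (g i)) :=
      closure_mono (Set.singleton_subset_iff.2 (show x ∈ Set.range (g i) from ⟨t, ht⟩)) hy'
    exact (coborder_inter_closure (s := Set.range (g i))).le
      (show y ∈ coborder (Set.range (g i)) ∩ closure (Set.range (g i)) from ⟨hy, this⟩)

theorem isConstructible_iff_generic [IsLocallyNoetherian X] (F : EtModW.Mod Λ X) :
    EtModW.IsConstructible Λ F ↔ ∀ x, GenericFLC F x :=
  ⟨generic_of_isConstructible F, isConstructible_of_generic F⟩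

end GrothLib.ModConstr
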