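import Groth.Agent.Lib.ModConstr.Strata

/-!
# Finite partitions into immersed pieces with a hereditary property
-/

universe u

open CategoryTheory CategoryTheory.Limits AlgebraicGeometry Opposite Topology

set_option backward.isDefEq.respectTransparency.types false
set_option linter.style.haveILetI false

noncomputable section

namespace GrothLib.ModConstr

open GrothLib.Constructible (exists_generators isConstructible_preimage_of_fac affine_nhd)

variable {X : Scheme.{u}}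

/-- Pieces with a property inherited by smaller pieces refine to a partition. -/
theorem exists_partition (P₀ : ∀ T : Scheme.{u}, (T ⟶ X) → Prop)
    (hP₀ : ∀ (T T' : Scheme.{u}) (q : T ⟶ X) (a : T' ⟶ T), P₀ T q → P₀ T' (a ≫ q)) (S : X.Opens) {ι : Type} [Finite ι] (T : ι → Scheme.{u})
    (g : ∀ i, T i ⟶ X) [∀ i, IsImmersion (g i)] (C : ι → Set X)
    (hC : ∀ i, C i ⊆ Set.range (g i)) (hcons : ∀ i, IsConstructible (S.ι ⁻¹' C i))
    (hcov : (S : Set X) ⊆ ⋃ i, C i)
    (h : ∀ i, P₀ (T i) (g i)) :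
    ∃ (n : ℕ) (T' : Fin n → Scheme.{u}) (g' : ∀ i, T' i ⟶ X), (∀ i, IsImmersion (g' i)) ∧
      Pairwise (fun i j => Disjoint (Set.range (g' i)) (Set.range (g' j))) ∧
      (⋃ i, Set.range (g' i)) = (S : Set X) ∧ ∀ i, P₀ (T' i) (g' i) := by
  classical
  haveI := Fintype.ofFinite ι
  choose O hO hsat using fun i => exists_generators (hcons i)
  let P := Finset.univ.biUnion O
  have hP : ∀ o ∈ P, IsOpen o ∧ IsRetrocompact o := fun o ho => by
    obtain ⟨i, -, hi⟩ := Finset.mem_biUnion.1 ho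
    exact hO i o hi
  let pat : ↥(S : Scheme.{u}) → Finset (Set ↥(S : Scheme.{u})) := fun x => P.filter fun o => x ∈ o
  let Q := {s : Finset (Set ↥(S : Scheme.{u})) // s ∈ P.powerset ∧ ∃ x, pat x = s}
  haveI : Finite Q := Finite.of_injective (β := P.powerset) (fun q => ⟨q.1, q.2.1⟩)
    fun a b hab => Subtype.ext (congrArg Subtype.val hab :)
  let A : Q → Set ↥(S : Scheme.{u}) := fun q => {x | pat x = q.1}
  let W : Q → Set ↥(S : Scheme.{u}) := fun q => ⋂ o ∈ q.1, o
  let V : Q → Set ↥(S : Scheme.{u}) := fun q => ⋃ o ∈ P \ q.1, o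
  have hA : ∀ q, A q = W q \ V q := fun q => by
    ext x
    simp only [A, W, V, pat, Set.mem_setOf_eq, Set.mem_sdiff, Set.mem_iInter, Set.mem_iUnion, Finset.mem_sdiff]
    constructor
    · intro e
      refine ⟨fun o ho => by rw [← e] at ho; exact (Finset.mem_filter.1 ho).2, ?_⟩
      rintro ⟨o, ⟨ho, ho'⟩, hxo⟩
      exact ho' (e ▸ Finset.mem_filter.2 ⟨ho, hxo⟩)
    · rintro ⟨h1, h2⟩
      ext o
      rw [Finset.mem_filter]
      exact ⟨fun ⟨ho, hxo⟩ => by_contra fun hn => h2 ⟨o, ⟨ho, hn⟩, hxo⟩,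
        fun ho => ⟨Finset.mem_powerset.1 q.2.1 ho, h1 o ho⟩⟩
  have hWo : ∀ q, IsOpen (W q) := fun q =>
    isOpen_biInter_finset fun o ho => (hP o (Finset.mem_powerset.1 q.2.1 ho)).1
  have hVo : ∀ q, IsOpen (V q) := fun q =>
    isOpen_biUnion fun o ho => (hP o (Finset.mem_sdiff.1 ho).1).1
  have hAcons : ∀ q, IsConstructible (A q) := fun q => by
    rw [hA q]
    refine IsConstructible.sdiff ?_ ?_
    · exact IsConstructible.biInter q.1.finite_toSet fun o ho =>
        (hP o (Finset.mem_powerset.1 q.2.1 ho)).2.isConstructible (hP o (Finset.mem_powerset.1 q.2.1 ho)).1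
    · exact IsConstructible.biUnion (P \ q.1).finite_toSet fun o ho =>
        (hP o (Finset.mem_sdiff.1 ho).1).2.isConstructible (hP o (Finset.mem_sdiff.1 ho).1).1
  have hpiece : ∀ q : Q, ∃ i, ∀ x ∈ A q, S.ι x ∈ C i := fun q => by
    obtain ⟨x, hx⟩ := q.2.2
    obtain ⟨i, hi⟩ := Set.mem_iUnion.1 (hcov x.2)
    refine ⟨i, fun y hy => ?_⟩
    refine (hsat i x y fun o ho => ?_).1 hi
    have hoP : o ∈ P := Finset.mem_biUnion.2 ⟨i, Finset.mem_univ i, ho⟩
    have e : pat x = pat y := hx.trans hy.symm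
    exact ⟨fun hxo => (Finset.mem_filter.1 (e ▸ Finset.mem_filter.2 ⟨hoP, hxo⟩ : o ∈ pat y)).2,
      fun hyo => (Finset.mem_filter.1 (e.symm ▸ Finset.mem_filter.2 ⟨hoP, hyo⟩ : o ∈ pat x)).2⟩
  choose idx hidx using hpiece
  have hopen : ∀ s : Set ↥(S : Scheme.{u}), IsOpen s → IsOpen (S.ι '' s) := fun s hs =>
    S.ι.isOpenEmbedding.isOpenMap s hs
  let Wo : ∀ q, (T (idx q)).Opens := fun q => g (idx q) ⁻¹ᵁ ⟨S.ι '' W q, hopen _ (hWo q)⟩
  let Z : ∀ q, TopologicalSpace.Closeds ↥((Wo q) : Scheme.{u}) := fun q =>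
    ⟨((Wo q).ι ≫ g (idx q)) ⁻¹' (S.ι '' V q)ᶜ,
      ((hopen _ (hVo q)).isClosed_compl).preimage ((Wo q).ι ≫ g (idx q)).continuous⟩
  let I := fun q => Scheme.IdealSheafData.vanishingIdeal (Z q)
  let m : ∀ q, (I q).subscheme ⟶ X := fun q => (I q).subschemeι ≫ (Wo q).ι ≫ g (idx q)
  have hrange : ∀ q, Set.range (m q) = S.ι '' A q := fun q => by
    have hZ : Set.range (I q).subschemeι = (Z q : Set ↥((Wo q) : Scheme.{u})) := by
      rw [Scheme.IdealSheafData.range_subschemeι, Scheme.IdealSheafData.coe_support_vanishingIdeal]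
    apply Set.Subset.antisymm
    · rintro _ ⟨z, rfl⟩
      have hz : (I q).subschemeι z ∈ (Z q : Set ↥((Wo q) : Scheme.{u})) := hZ ▸ Set.mem_range_self z
      obtain ⟨x, hx, hxw⟩ := ((I q).subschemeι z).2
      refine ⟨x, ?_, hxw⟩
      rw [hA q]
      exact ⟨hx, fun hxV => hz ⟨x, hxV, hxw⟩⟩
    · rintro _ ⟨x, hx, rfl⟩
      obtain ⟨t, ht⟩ := hC _ (hidx q x hx)
      rw [hA q] at hx
      let w : ↥((Wo q) : Scheme.{u}) := ⟨t, ⟨x, hx.1, ht.symm⟩⟩
      have hw : w ∈ (Z q : Set ↥((Wo q) : Scheme.{u})) := by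
        rintro ⟨y, hy, hyw⟩
        exact hx.2 (S.ι.isOpenEmbedding.injective (hyw.trans ht) ▸ hy)
      obtain ⟨z, hz⟩ : w ∈ Set.range (I q).subschemeι := hZ.symm ▸ hw
      exact ⟨z, (congrArg (fun v => ((Wo q).ι ≫ g (idx q)) v) hz).trans ht⟩
  let e := (Finite.equivFin Q).symm
  refine ⟨Nat.card Q, fun k => (I (e k)).subscheme, fun k => m (e k), fun k => ?_,
    fun k l hkl => ?_, ?_, fun k => ?_⟩
  · haveI : IsImmersion (g (idx (e k))) := inferInstance
    infer_instance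
  · change Disjoint (Set.range (m (e k))) (Set.range (m (e l)))
    rw [Set.disjoint_left]
    intro z hz hz'
    rw [hrange] at hz hz'
    obtain ⟨x, hx, rfl⟩ := hz
    obtain ⟨y, hy, hxy⟩ := hz'
    rw [S.ι.isOpenEmbedding.injective hxy] at hy
    exact hkl (e.injective (Subtype.ext (hx.symm.trans hy)))
  · apply Set.Subset.antisymm
    · refine Set.iUnion_subset fun k => ?_
      rw [hrange]
      rintro _ ⟨x, -, rfl⟩
      exact x.2
    · intro z hz
      let x : ↥(S : Scheme.{u}) := ⟨z, hz⟩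
      obtain ⟨k, hk⟩ := e.surjective ⟨pat x, Finset.mem_powerset.2 (Finset.filter_subset _ _), x, rfl⟩
      refine Set.mem_iUnion.2 ⟨k, ?_⟩
      rw [hrange]
      exact ⟨x, (congrArg Subtype.val hk).symm, rfl⟩
  · exact (congrArg (P₀ _) (Category.assoc _ _ _)).mp (hP₀ _ _ (g (idx (e k))) ((I (e k)).subschemeι ≫ (Wo (e k)).ι) (h _))

end GrothLib.ModConstr
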