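import Groth.Agent.Lib.ModConstr.AdicLisse
import Groth.Agent.Lib.ModConstr.GenericOpen
import Groth.Agent.Lib.ModConstr.Noetherian
import Groth.Agent.Lib.ModConstr.Partition

/-!
# Stratifications and dense opens on which an adic system is lisse
-/

set_option autoImplicit false
set_option linter.style.haveILetI false
set_option linter.unusedSectionVars false
set_option backward.isDefEq.respectTransparency.types false

universe u

open CategoryTheory CategoryTheory.Limits AlgebraicGeometry Opposite Topology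

noncomputable section

namespace GrothLib.ModConstr

open _root_.ARSys

variable {X : Scheme.{u}} {Λ : Type (u + 1)} [CommRing Λ]

/-- Finite type local constancy is local on the base. -/
theorem flc_of_open_cover (F : EtModW.Mod Λ X) {ι : Type u} (W : ι → X.Opens) (hW : ∀ x, ∃ i, x ∈ W i)
    (h : ∀ i, EtModW.IsFTLocConst Λ ((EtModW.pull Λ (W i).ι).obj F)) : EtModW.IsFTLocConst Λ F := by
  choose κ V hV hVi using h
  let U : (Σ i, κ i) → X.Etale := fun p =>
    haveI : Etale (V p.1 p.2).hom := (V p.1 p.2).prop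
    MorphismProperty.Over.mk _ ((V p.1 p.2).hom ≫ (W p.1).ι)
      (inferInstanceAs (Etale ((V p.1 p.2).hom ≫ (W p.1).ι)))
  refine ⟨Σ i, κ i, U, fun x => ?_, fun p => ?_⟩
  · obtain ⟨i, hi⟩ := hW x
    obtain ⟨j, v, hv⟩ := hV i (⟨x, hi⟩ : ↥(W i : Scheme.{u}))
    exact ⟨⟨i, j⟩, v, congrArg (W i).ι hv⟩
  · obtain ⟨M, _, _, hM, hiso⟩ := hVi p.1 p.2
    refine ⟨M, inferInstance, inferInstance, hM, ?_⟩
    rw [GrothLib.LocConst.restr_iso_const_iff_mod] at hiso ⊢
    obtain ⟨e⟩ := hiso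
    exact ⟨(FixPt.pullComp (V p.1 p.2).hom (W p.1).ι).app F ≪≫ e⟩

/-- Local constancy on the image of an open immersion. -/
theorem flc_opensRange {T : Scheme.{u}} (q : T ⟶ X) [IsOpenImmersion q] (F : EtModW.Mod Λ X)
    (h : EtModW.IsFTLocConst Λ ((EtModW.pull Λ q).obj F)) :
    EtModW.IsFTLocConst Λ ((EtModW.pull Λ q.opensRange.ι).obj F) :=
  flc_of_fac q.isoOpensRange.inv q _ q.isoOpensRange_inv_comp F h

variable [IsNoetherianRing Λ] {I : Ideal Λ} {F : PS (EtModW.Mod Λ X)}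

/-- Near every point some piece of its closure carries a lisse system. -/
theorem exists_piece_flc_adic [IsLocallyNoetherian X] (hF : IsAdic I F)
    (h0 : EtModW.IsConstructible Λ (F.obj (op 0))) (x : X) :
    ∃ (V : X.Opens) (T : Scheme.{u}) (g : T ⟶ X), IsImmersion g ∧ x ∈ V ∧
      Set.range g.base = (V : Set X) ∩ closure {x} ∧
      ∀ n : ℕ, EtModW.IsFTLocConst Λ ((EtModW.pull Λ g).obj (F.obj (op n))) := by
  obtain ⟨V, T, g, himm, hxV, hrange, hflc⟩ := generic_of_isConstructible _ h0 x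
  haveI := himm
  obtain ⟨t, ht⟩ : x ∈ Set.range g.base := hrange.ge ⟨hxV, subset_closure rfl⟩
  have hgen : ∀ O : Set T, IsOpen O → O.Nonempty → t ∈ O := by
    intro O hO hne
    obtain ⟨W, hW, rfl⟩ := g.isEmbedding.isInducing.isOpen_iff.1 hO
    obtain ⟨z, hz⟩ := hne
    obtain ⟨y, hyW, hy⟩ := mem_closure_iff.1 (hrange.le ⟨z, rfl⟩).2 W hW hz
    show g t ∈ W
    rw [show g t = x from ht, ← hy]
    exact hyW
  obtain ⟨O, htO, hO⟩ := exists_open_flc_adic (isAdic_map (EtModW.pull Λ g) (IsNoetherian.noetherian I) hF) hflc t hgen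
  obtain ⟨W, hW, hWO⟩ := g.isEmbedding.isInducing.isOpen_iff.1 O.2
  refine ⟨V ⊓ ⟨W, hW⟩, O, O.ι ≫ g, inferInstance, ⟨hxV, ?_⟩, ?_,
    fun n => flc_of_iso ((FixPt.pullComp O.ι g).app _).symm (hO n)⟩
  · have : t ∈ g ⁻¹' W := hWO.ge htO
    exact (ht ▸ this : x ∈ W)
  · have hr : Set.range (O.ι ≫ g) = g '' (g ⁻¹' W) := by
      rw [show Set.range (O.ι ≫ g) = g '' Set.range O.ι from Set.range_comp g O.ι, Scheme.Opens.range_ι]
      exact congrArg _ hWO.symm
    refine hr.trans ?_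
    rw [Set.image_preimage_eq_inter_range, show Set.range g = (V : Set X) ∩ closure {x} from hrange]
    ext y
    simp only [Set.mem_inter_iff, TopologicalSpace.Opens.coe_inf, TopologicalSpace.Opens.coe_mk]
    tauto

/-- A single finite partition on whose strata all the terms are lisse. -/
theorem exists_strata_flc_adic [IsNoetherian X] (hF : IsAdic I F) (h0 : EtModW.IsConstructible Λ (F.obj (op 0))) :
    ∃ (m : ℕ) (T : Fin m → Scheme.{u}) (g : ∀ i, T i ⟶ X),
      (∀ i, IsImmersion (g i)) ∧ Pairwise (fun i j => Disjoint (Set.range (g i)) (Set.range (g j))) ∧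
      (⋃ i, Set.range (g i)) = Set.univ ∧
      ∀ (i : Fin m) (n : ℕ), EtModW.IsFTLocConst Λ ((EtModW.pull Λ (g i)).obj (F.obj (op n))) := by
  choose V T g himm hxV hrange hflc using exists_piece_flc_adic hF h0
  haveI : CompactSpace ↥((⊤ : X.Opens) : Scheme.{u}) := isCompact_iff_compactSpace.1 isCompact_univ
  haveI : IsNoetherian ((⊤ : X.Opens) : Scheme.{u}) := {}
  haveI : TopologicalSpace.NoetherianSpace ↥((⊤ : X.Opens) : Scheme.{u}) := inferInstance
  have hcons : ∀ x : X, IsConstructible ((⊤ : X.Opens).ι ⁻¹' Set.range (g x)) := fun x => by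
    rw [hrange x, Set.preimage_inter]
    refine IsConstructible.inter
      (GrothLib.Constructible.isConstructible_of_isOpen_of_noetherian ((V x).2.preimage (Scheme.Opens.ι _).continuous)) ?_
    exact IsConstructible.of_compl (GrothLib.Constructible.isConstructible_of_isOpen_of_noetherian
      (isClosed_closure.preimage (Scheme.Opens.ι _).continuous).isOpen_compl)
  obtain ⟨t, ht⟩ := @IsCompact.elim_finite_subcover ↥((⊤ : X.Opens) : Scheme.{u}) (constructibleTopology _) Set.univ _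
    (GrothLib.Constr.isCompact_constructibleTopology_of_isClosed
      (@isClosed_univ ↥((⊤ : X.Opens) : Scheme.{u}) (constructibleTopology _)))
    (fun x : X => (⊤ : X.Opens).ι ⁻¹' Set.range (g x))
    (fun x => (GrothLib.Constr.isOpen_constructibleTopology_of_isConstructible (hcons x)).1)
    (fun x _ => Set.mem_iUnion.2 ⟨(⊤ : X.Opens).ι x, by
      rw [Set.mem_preimage, hrange]
      exact ⟨hxV _, subset_closure rfl⟩⟩)
  let e := t.equivFin.symm
  haveI := himm
  obtain ⟨m, T', g', h₁, h₂, h₃, h₄⟩ := exists_partition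
    (fun T q => ∀ n : ℕ, EtModW.IsFTLocConst Λ ((EtModW.pull Λ q).obj (F.obj (op n))))
    (fun T T' q a h n => flc_of_fac a q _ rfl _ (h n)) ⊤ (fun k : Fin t.card => T (e k).1) (fun k => g (e k).1)
    (fun k => Set.range (g (e k).1)) (fun k => le_rfl) (fun k => hcons _)
    (fun x hx => by
      obtain ⟨i, hi, hxi⟩ := Set.mem_iUnion₂.1 (ht (Set.mem_univ (⟨x, hx⟩ : ↥((⊤ : X.Opens) : Scheme.{u}))))
      obtain ⟨k, hk⟩ := e.surjective ⟨i, hi⟩
      exact Set.mem_iUnion.2 ⟨k, by rw [show (e k).1 = i from congrArg Subtype.val hk]; exact hxi⟩)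
    (fun k n => hflc _ n)
  exact ⟨m, T', g', h₁, h₂, h₃, h₄⟩

/-- Near a generic point of a component all the terms are lisse. -/
theorem exists_open_flc_adic_nhd [IsLocallyNoetherian X] (hF : IsAdic I F)
    (h0 : EtModW.IsConstructible Λ (F.obj (op 0))) (W : X.Opens) (x : X) (hxW : x ∈ W)
    (hW : (W : Set X) ⊆ closure {x}) :
    ∃ O : X.Opens, x ∈ O ∧ O ≤ W ∧ ∀ n : ℕ, EtModW.IsFTLocConst Λ ((EtModW.pull Λ O.ι).obj (F.obj (op n))) := by
  let t : ↥(W : Scheme.{u}) := ⟨x, hxW⟩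
  have hgen : ∀ O : Set ↥(W : Scheme.{u}), IsOpen O → O.Nonempty → t ∈ O := by
    intro O hO hne
    obtain ⟨W', hW', rfl⟩ := W.ι.isEmbedding.isInducing.isOpen_iff.1 hO
    obtain ⟨z, hz⟩ := hne
    obtain ⟨y, hyW, hy⟩ := mem_closure_iff.1 (hW z.2) W' hW' hz
    exact (hy ▸ hyW : x ∈ W')
  obtain ⟨O₁, htO₁, hO₁⟩ := exists_open_flc_of_generic _ (isConstructible_pull W.ι _ h0) t hgen
  let t₁ : ↥(O₁ : Scheme.{u}) := ⟨t, htO₁⟩
  have hgen₁ : ∀ O : Set ↥(O₁ : Scheme.{u}), IsOpen O → O.Nonempty → t₁ ∈ O := by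
    intro O hO hne
    obtain ⟨z, hz, he⟩ := hgen _ (O₁.ι.isOpenEmbedding.isOpenMap _ hO) (hne.image _)
    have e' : z = t₁ := O₁.ι.isOpenEmbedding.injective he
    exact e' ▸ hz
  have hI := IsNoetherian.noetherian I
  obtain ⟨O₂, htO₂, hO₂⟩ := exists_open_flc_adic
    (isAdic_map (EtModW.pull Λ O₁.ι) hI (isAdic_map (EtModW.pull Λ W.ι) hI hF)) hO₁ t₁ hgen₁
  refine ⟨(O₂.ι ≫ O₁.ι ≫ W.ι).opensRange, ⟨(⟨t₁, htO₂⟩ : ↥(O₂ : Scheme.{u})), rfl⟩, ?_,
    fun n => flc_opensRange _ _ ?_⟩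
  · rintro _ ⟨z, rfl⟩
    exact ((O₂.ι ≫ O₁.ι) z).2
  · exact flc_of_iso ((FixPt.pullComp O₂.ι (O₁.ι ≫ W.ι)).app _).symm
      (flc_of_iso ((EtModW.pull Λ O₂.ι).mapIso ((FixPt.pullComp O₁.ι W.ι).app _).symm) (hO₂ n))

/-- A dense open on which all the terms are lisse. -/
theorem exists_dense_open_flc_adic [IsNoetherian X] (hF : IsAdic I F)
    (h0 : EtModW.IsConstructible Λ (F.obj (op 0))) :
    ∃ U : X.Opens, Dense (U : Set X) ∧
      ∀ n : ℕ, EtModW.IsFTLocConst Λ ((EtModW.pull Λ U.ι).obj (F.obj (op n))) := by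
  let ι := {O : X.Opens // ∀ n : ℕ, EtModW.IsFTLocConst Λ ((EtModW.pull Λ O.ι).obj (F.obj (op n)))}
  let U : X.Opens := ⨆ O : ι, O.1
  refine ⟨U, dense_iff_inter_open.2 fun O hO ⟨z, hz⟩ => ?_, fun n => ?_⟩
  · have hZc : IsClosed (irreducibleComponent z) := isClosed_irreducibleComponent
    obtain ⟨o, ho, hne, hoZ⟩ := TopologicalSpace.NoetherianSpace.exists_isOpen_nonempty_subset_irreducibleComponent
      (irreducibleComponent z) (irreducibleComponent_mem_irreducibleComponents z)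
    have hirr : IsIrreducible (irreducibleComponent z) := isIrreducible_irreducibleComponent
    let x := hirr.genericPoint
    have hx : closure ({x} : Set X) = irreducibleComponent z := by
      exact hirr.closure_genericPoint hZc
    have hmem : ∀ (W : Set X), IsOpen W → ∀ y ∈ irreducibleComponent z, y ∈ W → x ∈ W := fun W hW y hy hyW => by
      obtain ⟨w, hw, hwx⟩ := mem_closure_iff.1 (hx.symm ▸ hy : y ∈ closure ({x} : Set X)) W hW hyW
      exact hwx ▸ hw
    have hxO : x ∈ O := hmem O hO z mem_irreducibleComponent hz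
    obtain ⟨y, hy⟩ := hne
    have hxo : x ∈ o := hmem o ho y (hoZ hy) hy
    obtain ⟨O', hxO', hle, hO'⟩ := exists_open_flc_adic_nhd hF h0 ⟨o ∩ O, ho.inter hO⟩ x ⟨hxo, hxO⟩
      (fun y hy => hx.ge (hoZ hy.1))
    exact ⟨x, hxO, TopologicalSpace.Opens.mem_iSup.2 ⟨⟨O', hO'⟩, hxO'⟩⟩
  · refine flc_of_open_cover _ (fun O : ι => U.ι ⁻¹ᵁ O.1) (fun y => ?_) fun O => ?_
    · obtain ⟨O, hO⟩ := TopologicalSpace.Opens.mem_iSup.1 (show (y.1 : X) ∈ ⨆ O : ι, O.1 from y.2)
      exact ⟨O, hO⟩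
    refine flc_of_iso ((FixPt.pullComp (U.ι ⁻¹ᵁ O.1).ι U.ι).app _) (flc_of_fac (U.ι ∣_ O.1) O.1.ι _ ?_ _ (O.2 n))
    exact morphismRestrict_ι U.ι O.1

end GrothLib.ModConstr
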