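import Groth.Agent.Lib.ModConstr.Serre
import Groth.Agent.Lib.Constructible.Chain

/-!
# Constructible sheaves of modules on Noetherian schemes are Noetherian objects
-/

universe u

open CategoryTheory CategoryTheory.Limits AlgebraicGeometry Opposite Topology
open GrothLib.EtSite GrothLib.LocConst

set_option backward.isDefEq.respectTransparency.types false
set_option linter.style.haveILetI false

noncomputable section

namespace GrothLib.ModConstr

open GrothLib.Constructible (affine_nhd isConstructible_of_isOpen_of_noetherian exists_point_lift)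
open GrothLib.TrivEt GrothLib.TrivMod

variable {X : Scheme.{u}} {Λ : Type (u + 1)} [CommRing Λ]

/-- A map vanishing on all stalks vanishes. -/
theorem zero_of_stalks {F G : EtModW.Mod Λ X} (a : F ⟶ G)
    (h : ∀ (Ω : Type u) [Field Ω] [IsSepClosed Ω] (ξ : Spec (CommRingCat.of Ω) ⟶ X),
      (EtModW.stalk Λ ξ).map a = 0) : a = 0 := by
  haveI := hasSheafCompose_et Λ X
  refine Sheaf.hom_ext (NatTrans.ext (funext fun U => ?_))
  ext s
  let R : Sieve U.unop :=
    { arrows := fun V g => G.obj.map g.op (a.hom.app U s) = 0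
      downward_closed := by
        intro V W g hg k
        rw [op_comp, Functor.map_comp, ConcreteCategory.comp_apply, hg, map_zero] }
  refine res_ext G (S := R) (mem_of_forall _ fun u => ?_) fun V g hg => by
    show res _ G g (a.hom.app U s) = res _ G g 0
    rw [map_zero]; exact hg
  let P : X.smallEtaleTopology.Point := Scheme.pointSmallEtale (gpt (U.unop.hom.base u))
  obtain ⟨t, ht⟩ := exists_fib (gpt (U.unop.hom.base u)) u (gpt_default _).symm
  have h0 : P.toPresheafFiber U.unop t G.obj (a.hom.app U s) = P.toPresheafFiber U.unop t G.obj 0 := by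
    refine (P.toPresheafFiber_naturality_apply a.hom U.unop t s).symm.trans (Eq.trans ?_ (map_zero _).symm)
    exact ConcreteCategory.congr_hom (h _ (gpt (U.unop.hom.base u))) _
  obtain ⟨V, g, v, hv, hg⟩ := (P.toPresheafFiber_eq_iff' U.unop t _ 0).1 h0
  exact ⟨V, g, _, hg.trans (map_zero _), (base_fiber_map _ g v t hv).trans ht⟩

/-- A map into a finite type locally constant sheaf vanishing at a generic point vanishes. -/
theorem map_eq_zero_of_generic {H Q : EtModW.Mod Λ X} (φ : H ⟶ Q)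
    (hQ : EtModW.IsFTLocConst Λ Q) (t : X)
    (hgen : ∀ O : Set X, IsOpen O → O.Nonempty → t ∈ O)
    {K : Type u} [Field K] [IsSepClosed K] (τ₀ : Spec (CommRingCat.of K) ⟶ X)
    (hτ : τ₀.base default = t) (hz : (EtModW.stalk Λ τ₀).map φ = 0) : φ = 0 := by
  haveI := hasSheafCompose_et Λ X
  refine Sheaf.hom_ext (NatTrans.ext (funext fun U => ?_))
  ext s
  let R : Sieve U.unop :=
    { arrows := fun V g => Q.obj.map g.op (φ.hom.app U s) = 0
      downward_closed := by
        intro V W g hg k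
        rw [op_comp, Functor.map_comp, ConcreteCategory.comp_apply, hg, map_zero] }
  refine res_ext Q (S := R) (mem_of_forall _ fun u => ?_) fun V g hg => by
    show res _ Q g (φ.hom.app U s) = res _ Q g 0
    rw [map_zero]; exact hg
  obtain ⟨V, v, hv, M, _, _, _, m, hm⟩ := exists_triv_of_isFTLocConst hQ (U.unop.hom u)
  obtain ⟨U', a, b, p, hp⟩ : ∃ (U' : X.Etale) (a : U' ⟶ U.unop) (_ : U' ⟶ V) (p : U'.left), a.left p = u := by
    haveI : Etale U.unop.hom := U.unop.prop
    haveI : Etale V.hom := V.prop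
    obtain ⟨p, hp₁, -⟩ := Scheme.Pullback.exists_preimage_pullback (f := U.unop.hom) (g := V.hom) u v hv.symm
    exact ⟨MorphismProperty.Over.mk _ (pullback.fst U.unop.hom V.hom ≫ U.unop.hom)
      (inferInstanceAs (Etale (pullback.fst U.unop.hom V.hom ≫ U.unop.hom))),
      MorphismProperty.Over.homMk (pullback.fst _ _) rfl trivial,
      MorphismProperty.Over.homMk (pullback.snd _ _) pullback.condition.symm trivial, p, hp₁⟩
  obtain ⟨S, hS, hS'⟩ := hm.surj b (res _ Q a (φ.hom.app U s))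
  obtain ⟨W, k, z, hk, hzp⟩ := exists_of_mem hS p
  obtain ⟨x, hx⟩ := hS' k hk
  refine ⟨W, k ≫ a, z, ?_, (congrArg a.left hzp).trans hp⟩
  show res _ Q (k ≫ a) (φ.hom.app U s) = 0
  rw [res_comp, hx]
  haveI : Etale W.hom := W.prop
  obtain ⟨y, hy⟩ := hgen _ W.hom.isOpenMap.isOpen_range (Set.range_nonempty_iff_nonempty.2 ⟨z⟩)
  obtain ⟨τ, -⟩ := exists_fib τ₀ y (hy.trans hτ.symm)
  let P : X.smallEtaleTopology.Point := Scheme.pointSmallEtale τ₀
  have hmW := hm.restrict (k ≫ b)
  have hzero : P.toPresheafFiber W τ Q.obj (res _ Q (k ≫ b) (m x)) = 0 := by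
    rw [← hx, ← res_comp,
      show res _ Q (k ≫ a) (φ.hom.app U s) = φ.hom.app (op W) (res _ H (k ≫ a) s) from
        (NatTrans.naturality_apply φ.hom (k ≫ a).op s).symm, ← P.toPresheafFiber_naturality_apply]
    exact ConcreteCategory.congr_hom hz _
  have hx0 : x = 0 := (bijective_germ τ₀ hmW τ).1 (by
    show P.toPresheafFiber W τ Q.obj (res _ Q (k ≫ b) (m x)) = P.toPresheafFiber W τ Q.obj _
    rw [hzero, map_zero, map_zero])
  rw [hx0, map_zero, map_zero]

/-- Vanishing of a stalk map of an inverse image. -/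
theorem stalk_pull_map_eq_zero {T : Scheme.{u}} (g : T ⟶ X) {Ω : Type u} [Field Ω] [IsSepClosed Ω]
    (ζ : Spec (CommRingCat.of Ω) ⟶ T) {F G : EtModW.Mod Λ X} (φ : F ⟶ G) :
    (EtModW.stalk Λ ζ).map ((EtModW.pull Λ g).map φ) = 0 ↔ (EtModW.stalk Λ (ζ ≫ g)).map φ = 0 := by
  have e := (pullStalkIso ζ g).hom.naturality φ
  constructor
  · intro h
    change (EtModW.stalk Λ ζ).map ((EtModW.pull Λ g).map φ) ≫ _ = _ at e
    rw [h, zero_comp] at e
    exact (cancel_epi ((pullStalkIso ζ g).hom.app F)).1 (e.symm.trans comp_zero.symm)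
  · intro h
    change (EtModW.stalk Λ ζ).map ((EtModW.pull Λ g).map φ) ≫ _ = _ at e
    rw [h, comp_zero] at e
    exact (cancel_mono ((pullStalkIso ζ g).hom.app G)).1 (e.trans zero_comp.symm)

/-- Geometric stalks of constructible sheaves of modules are finite modules. -/
theorem finite_stalk (F : EtModW.Mod Λ X) (hF : EtModW.IsConstructible Λ F) {Ω : Type u} [Field Ω]
    [IsSepClosed Ω] (ξ : Spec (CommRingCat.of Ω) ⟶ X) : Module.Finite Λ ((EtModW.stalk Λ ξ).obj F) := by
  obtain ⟨U, hU, hxU, -⟩ := affine_nhd (X := X) isOpen_univ (Set.mem_univ (ξ.base default))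
  obtain ⟨n, T, g, himm, -, -, hcov, hflc⟩ := hF U hU
  obtain ⟨i, t, ht⟩ := Set.mem_iUnion.1 (hcov.ge hxU)
  haveI := himm i
  obtain ⟨ζ, hζ, hζt⟩ := exists_point_lift (g i) ξ t ht
  subst hζ
  obtain ⟨V, v, hv, M, _, _, hM, m, hm⟩ := exists_triv_of_isFTLocConst (hflc i) t
  obtain ⟨s, -⟩ := exists_fib ζ v (hv.trans hζt.symm)
  let L : M →ₗ[Λ] (EtModW.stalk Λ ζ).obj ((EtModW.pull Λ (g i)).obj F) :=
    ((Scheme.pointSmallEtale ζ).toPresheafFiber V s ((EtModW.pull Λ (g i)).obj F).obj).hom.comp m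
  haveI : Module.Finite Λ ((EtModW.stalk Λ ζ).obj ((EtModW.pull Λ (g i)).obj F)) :=
    Module.Finite.of_surjective L (bijective_germ ζ hm s).2
  haveI : Module.Finite Λ ((EtModW.pull Λ (g i) ⋙ EtModW.stalk Λ ζ).obj F) :=
    (inferInstance : Module.Finite Λ ((EtModW.stalk Λ ζ).obj ((EtModW.pull Λ (g i)).obj F)))
  exact Module.Finite.equiv ((pullStalkIso ζ (g i)).app F).toLinearEquiv

/-- The map comparing two subobjects. -/
def chainMap {F : EtModW.Mod Λ X} (c : ℕ →o Subobject F) (k m : ℕ) :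
    ((c m : Subobject F) : EtModW.Mod Λ X) ⟶ cokernel (c k).arrow :=
  (c m).arrow ≫ cokernel.π (c k).arrow

/-- Chains are stable on a neighbourhood in each point closure. -/
theorem exists_stable_piece [IsNoetherianRing Λ] [IsLocallyNoetherian X] (F : EtModW.Mod Λ X)
    (hF : EtModW.IsConstructible Λ F) (c : ℕ →o Subobject F) (x : X) :
    ∃ (V : X.Opens) (k : ℕ), x ∈ V ∧ ∀ m, k ≤ m → ∀ (Ω : Type u) [Field Ω] [IsSepClosed Ω]
      (ξ : Spec (CommRingCat.of Ω) ⟶ X), ξ.base default ∈ (V : Set X) ∩ closure {x} →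
        (EtModW.stalk Λ ξ).map (chainMap c k m) = 0 := by
  obtain ⟨V, T, g, himm, hxV, hrange, hflc⟩ := generic_of_isConstructible F hF x
  haveI := himm
  obtain ⟨t, ht⟩ : x ∈ Set.range g.base := hrange.ge ⟨hxV, subset_closure rfl⟩
  have hgen : ∀ O : Set T, IsOpen O → O.Nonempty → t ∈ O := fun O hO ⟨y, hy⟩ => by
    obtain ⟨W, hW, rfl⟩ := g.isEmbedding.isInducing.isOpen_iff.1 hO
    obtain ⟨z, hz, rfl⟩ := mem_closure_iff.1 (hrange.le ⟨y, rfl⟩).2 W hW hy
    change g t ∈ W
    rw [ht]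
    exact hz
  let ξ0 := gpt t ≫ g
  haveI := finite_stalk F hF ξ0
  haveI : IsNoetherian Λ ((EtModW.stalk Λ ξ0).obj F) := isNoetherian_of_isNoetherianRing_of_finite Λ _
  let R : ℕ → Submodule Λ ((EtModW.stalk Λ ξ0).obj F) := fun m => LinearMap.range ((EtModW.stalk Λ ξ0).map (c m).arrow).hom
  have hR : Monotone R := fun a b hab => by
    rintro _ ⟨p, rfl⟩
    refine ⟨(EtModW.stalk Λ ξ0).map (Subobject.ofLE _ _ (c.monotone hab)) p, ?_⟩
    rw [← ConcreteCategory.comp_apply, ← Functor.map_comp, Subobject.ofLE_arrow]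
  obtain ⟨k, hk⟩ := WellFoundedGT.monotone_chain_condition (⟨R, hR⟩ : ℕ →o Submodule Λ _)
  haveI := pull_map_mono g (c k).arrow
  obtain ⟨O, htO, hO⟩ := exists_flc_nhd_sub ((EtModW.pull Λ g).map (c k).arrow) hflc t hgen
  let b : (O : Scheme.{u}) ⟶ X := O.ι ≫ g
  have h1 : EtModW.IsFTLocConst Λ ((EtModW.pull Λ b).obj (c k : EtModW.Mod Λ X)) :=
    flc_of_iso ((FixPt.pullComp O.ι g).app _).symm hO
  have h2 : EtModW.IsFTLocConst Λ ((EtModW.pull Λ b).obj F) := flc_of_fac O.ι g b rfl F hflc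
  let S : ShortComplex (EtModW.Mod Λ X) :=
    ShortComplex.mk (c k).arrow (cokernel.π (c k).arrow) (cokernel.condition _)
  haveI : Epi (S.map (EtModW.pull Λ b)).g :=
    inferInstanceAs (Epi ((EtModW.pull Λ b).map (cokernel.π (c k).arrow)))
  have h3 : EtModW.IsFTLocConst Λ ((EtModW.pull Λ b).obj (cokernel (c k).arrow)) :=
    flc_right (S.map (EtModW.pull Λ b)) (pull_exact b S (ShortComplex.exact_cokernel _)) h1 h2
  obtain ⟨W, hW, hWO⟩ := g.isEmbedding.isInducing.isOpen_iff.1 O.2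
  have hxW : x ∈ W := ht ▸ (hWO.ge htO : t ∈ g ⁻¹' W)
  refine ⟨V ⊓ ⟨W, hW⟩, k, ⟨hxV, hxW⟩, fun m hm Ω _ _ ξ hξ => ?_⟩
  obtain ⟨y, hy⟩ : ξ.base default ∈ Set.range g.base := hrange.ge ⟨hξ.1.1, hξ.2⟩
  have hyO : y ∈ O := hWO.le (show g y ∈ W from hy ▸ hξ.1.2)
  let tO : ↥(O : Scheme.{u}) := ⟨t, htO⟩
  have hgenO : ∀ O' : Set ↥(O : Scheme.{u}), IsOpen O' → O'.Nonempty → tO ∈ O' := fun O' hO' ⟨z, hz⟩ => by
    obtain ⟨z', hz', he⟩ := hgen _ (O.ι.isOpenEmbedding.isOpenMap _ hO') ⟨_, z, hz, rfl⟩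
    have e' : z' = tO := O.ι.isOpenEmbedding.injective (he : O.ι z' = O.ι tO)
    exact e' ▸ hz'
  have hbt : b tO = x := ht
  obtain ⟨τ₀, hτ₀, hτ₀t⟩ := exists_point_lift O.ι (gpt t) tO (gpt_default t).symm
  have hzero : (EtModW.pull Λ b).map (chainMap c k m) = 0 := by
    refine map_eq_zero_of_generic _ h3 tO hgenO τ₀ hτ₀t ?_
    rw [stalk_pull_map_eq_zero]
    have e : τ₀ ≫ b = ξ0 := (Category.assoc _ _ _).symm.trans (congrArg (· ≫ g) hτ₀)
    rw [e]
    ext p
    obtain ⟨q, hq⟩ : (EtModW.stalk Λ ξ0).map (c m).arrow p ∈ R k :=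
      (hk m hm).ge ⟨p, rfl⟩
    rw [chainMap, Functor.map_comp, ConcreteCategory.comp_apply, ← hq, ← ConcreteCategory.comp_apply,
      ← Functor.map_comp, cokernel.condition, Functor.map_zero]
    rfl
  obtain ⟨ζ, hζ, hζy⟩ := exists_point_lift b ξ ⟨y, hyO⟩ hy
  subst hζ
  rw [← stalk_pull_map_eq_zero, hzero, Functor.map_zero]

/-- Constructible sheaves on a Noetherian scheme satisfy the ascending chain condition. -/
theorem chain_eventually_constant [IsNoetherianRing Λ] [IsNoetherian X] (F : EtModW.Mod Λ X)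
    (hF : EtModW.IsConstructible Λ F) (c : ℕ →o Subobject F) :
    ∃ N, ∀ m, N ≤ m → c m = c N := by
  classical
  choose V k hxV hk using exists_stable_piece F hF c
  have hcons : ∀ x, IsConstructible ((V x : Set X) ∩ closure {x}) := fun x => by
    refine IsConstructible.inter (isConstructible_of_isOpen_of_noetherian (V x).2) ?_
    exact IsConstructible.of_compl
      (isConstructible_of_isOpen_of_noetherian isClosed_closure.isOpen_compl)
  obtain ⟨t, ht⟩ := @IsCompact.elim_finite_subcover X (constructibleTopology _) Set.univ _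
    (GrothLib.Constr.isCompact_constructibleTopology_of_isClosed
      (@isClosed_univ X (constructibleTopology _)))
    (fun x => (V x : Set X) ∩ closure {x})
    (fun x => (GrothLib.Constr.isOpen_constructibleTopology_of_isConstructible (hcons x)).1)
    (fun x _ => Set.mem_iUnion.2 ⟨x, hxV x, subset_closure rfl⟩)
  refine ⟨t.sup k, fun m hm => le_antisymm ?_ (c.monotone hm)⟩
  have h0 : (c m).arrow ≫ cokernel.π (c (t.sup k)).arrow = 0 := by
    refine zero_of_stalks _ fun Ω _ _ ξ => ?_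
    obtain ⟨x, hx, hξ⟩ := Set.mem_iUnion₂.1 (ht (Set.mem_univ (ξ.base default)))
    have h := hk x m ((Finset.le_sup hx).trans hm) Ω ξ hξ
    have hle : k x ≤ t.sup k := Finset.le_sup hx
    have hfac : (c m).arrow ≫ cokernel.π (c (t.sup k)).arrow = chainMap c (k x) m ≫
        cokernel.desc _ (cokernel.π (c (t.sup k)).arrow) (by
          rw [← Subobject.ofLE_arrow (c.monotone hle), Category.assoc, cokernel.condition,
            comp_zero]) := by
      rw [chainMap, Category.assoc, cokernel.π_desc]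
    rw [hfac, Functor.map_comp, h, zero_comp]
  exact Subobject.le_of_comm (Abelian.monoLift _ _ h0) (Abelian.monoLift_comp _ _ h0)

theorem isNoetherianObject [IsNoetherianRing Λ] [IsNoetherian X] (F : EtModW.Mod Λ X) (hF : EtModW.IsConstructible Λ F) :
    IsNoetherianObject F :=
  (isNoetherianObject_iff_monotone_chain_condition F).2 fun c => by
    obtain ⟨N, hN⟩ := chain_eventually_constant F hF c
    exact ⟨N, fun m hm => (hN m hm).symm⟩

end GrothLib.ModConstr
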