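import Groth.Agent.Lib.ModConstr.ARLocal
import Mathlib.RingTheory.Artinian.Module

/-!
# Mittag-Leffler for lisse systems with Artinian coefficients
-/

set_option autoImplicit false
set_option linter.style.haveILetI false
set_option linter.unusedSectionVars false
set_option backward.isDefEq.respectTransparency.types false

universe u w v v' u₁ u₂

open CategoryTheory CategoryTheory.Limits AlgebraicGeometry Opposite

noncomputable section

namespace GrothLib.ModConstr

open _root_.ARSys

/-- A finite module killed by a power of `I` with `R ⧸ I` Artinian is Artinian. -/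
theorem isArtinian_of_killed_pow {R : Type w} [CommRing R] [IsNoetherianRing R] (I : Ideal R) [IsArtinianRing (R ⧸ I)] :
    ∀ (k : ℕ) (M : Type w) [AddCommGroup M] [Module R M] [Module.Finite R M],
      (∀ a ∈ I ^ k, ∀ x : M, a • x = 0) → IsArtinian R M := by
  intro k
  induction k with
  | zero =>
    intro M _ _ _ h
    haveI : Subsingleton M := ⟨fun x y => by
      rw [← one_smul R x, ← one_smul R y, h 1 (by simp) x, h 1 (by simp) y]⟩
    infer_instance
  | succ k ih =>
    intro M _ _ _ h
    let N : Submodule R M := I • ⊤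
    haveI : Module.Finite R N := Module.Finite.iff_fg.2 (IsNoetherian.noetherian N)
    haveI : IsArtinian R N := ih N fun a ha x => Subtype.ext (Submodule.smul_induction_on (p := fun y => a • y = 0) x.2
      (fun b hb y _ => by rw [smul_smul]; exact h _ (by rw [pow_succ]; exact Ideal.mul_mem_mul ha hb) y)
      fun y z hy hz => by rw [smul_add, hy, hz, add_zero])
    haveI : IsArtinian (R ⧸ I) (M ⧸ I • (⊤ : Submodule R M)) := inferInstance
    haveI : IsArtinian R (M ⧸ N) :=
      isArtinian_of_surjective_algebraMap (R := R ⧸ I) (S := R) Ideal.Quotient.mk_surjective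
    exact (isArtinian_iff_submodule_quotient N).2 ⟨inferInstance, inferInstance⟩

variable {X : Scheme.{u}} {Λ : Type (u + 1)} [CommRing Λ] [IsNoetherianRing Λ]

/-- Maps of locally constant sheaves are detected at the generic points. -/
theorem exists_generic_points [IsNoetherian X] :
    ∃ s : Finset X, ∀ (F G : EtModW.Mod Λ X), EtModW.IsFTLocConst Λ F → EtModW.IsFTLocConst Λ G → ∀ φ : F ⟶ G,
      (∀ x ∈ s, (EtModW.stalk Λ (GrothLib.EtSite.gpt x)).map φ = 0) → φ = 0 := by
  classical
  have hfin := TopologicalSpace.NoetherianSpace.finite_irreducibleComponents (α := X)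
  choose η hη using fun Z : irreducibleComponents X =>
    QuasiSober.sober Z.2.1 (isClosed_of_mem_irreducibleComponents Z.1 Z.2)
  haveI := hfin.fintype
  refine ⟨Finset.univ.image η, fun F G hF hG φ h => zero_of_stalks φ fun Ω _ _ ζ => ?_⟩
  let D : ComposableArrows (EtModW.Mod Λ X) 1 := ComposableArrows.mk₁ φ
  let Z : irreducibleComponents X := ⟨_, irreducibleComponent_mem_irreducibleComponents (ζ.base default)⟩
  have hsp : η Z ⤳ ζ.base default := (hη Z).specializes mem_irreducibleComponent
  obtain ⟨e⟩ := GrothLib.TrivEt.nonempty_iso_of_specializes ζ (GrothLib.EtSite.gpt (η Z)) D (fun j x => by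
      fin_cases j
      · obtain ⟨V, v, hv, M, i₁, i₂, -, m, hm⟩ := GrothLib.TrivEt.exists_triv_of_isFTLocConst hF x
        exact ⟨V, v, hv, M, i₁, i₂, m, hm⟩
      · obtain ⟨V, v, hv, M, i₁, i₂, -, m, hm⟩ := GrothLib.TrivEt.exists_triv_of_isFTLocConst hG x
        exact ⟨V, v, hv, M, i₁, i₂, m, hm⟩)
    (by rw [GrothLib.EtSite.gpt_default]; exact hsp)
  have h0 : (D ⋙ EtModW.stalk Λ (GrothLib.EtSite.gpt (η Z))).map (homOfLE (Fin.zero_le 1)) = 0 :=
    h _ (Finset.mem_image_of_mem η (Finset.mem_univ Z))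
  show (D ⋙ EtModW.stalk Λ ζ).map (homOfLE (Fin.zero_le 1)) = 0
  rw [← cancel_mono (e.hom.app 1), zero_comp]
  exact (e.hom.naturality _).trans ((congrArg (e.hom.app 0 ≫ ·) h0).trans comp_zero)

/-- Lisse systems killed termwise by powers of `I` satisfy the Mittag-Leffler condition. -/
theorem exists_ml_bound [IsNoetherian X] (I : Ideal Λ) [IsArtinianRing (Λ ⧸ I)] {F : PS (EtModW.Mod Λ X)}
    (hk : TermKilled I F) (hF : ∀ n : ℕ, EtModW.IsFTLocConst Λ (F.obj (op n))) (n : ℕ) :
    ∃ r : ℕ, ∀ s : ℕ, r ≤ s → shiftMap F r n ≫ cokernel.π (shiftMap F s n) = 0 := by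
  classical
  obtain ⟨S, hS⟩ := exists_generic_points (X := X) (Λ := Λ)
  have key : ∀ x : X, ∃ r : ℕ, ∀ s : ℕ, r ≤ s →
      (EtModW.stalk Λ (GrothLib.EtSite.gpt x)).map (shiftMap F r n ≫ cokernel.π (shiftMap F s n)) = 0 := by
    intro x
    let G := EtModW.stalk Λ (GrothLib.EtSite.gpt x)
    haveI : Module.Finite Λ (G.obj (F.obj (op n))) := finite_stalk_of_flc (hF n) _
    haveI : IsArtinian Λ (G.obj (F.obj (op n))) := isArtinian_of_killed_pow I (n + 1) _ fun a ha y => by
      have := congrArg (fun φ : G.obj (F.obj (op n)) ⟶ G.obj (F.obj (op n)) => φ y)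
        (killedBy_map G (hk n) a ha)
      simpa using this
    let c : ℕ →o (Submodule Λ (G.obj (F.obj (op n))))ᵒᵈ :=
      ⟨fun s => OrderDual.toDual (LinearMap.range (G.map (shiftMap F s n)).hom), fun s t hst => by
        rintro _ ⟨y, rfl⟩
        refine ⟨G.map (tr F (show n + s ≤ n + t by omega)) y, ?_⟩
        exact (ConcreteCategory.congr_hom (G.map_comp _ _).symm y).trans
          (congrArg (fun q => G.map q y) (GrothLib.ARSys.tr_tr F (Nat.le_add_right n s) (show n + s ≤ n + t by omega)))⟩
    obtain ⟨r, hr⟩ := IsArtinian.monotone_stabilizes c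
    refine ⟨r, fun s hs => ModuleCat.hom_ext (LinearMap.ext fun y => ?_)⟩
    obtain ⟨z, hz⟩ : G.map (shiftMap F r n) y ∈ LinearMap.range (G.map (shiftMap F s n)).hom :=
      (congrArg OrderDual.ofDual (hr s hs)).le ⟨y, rfl⟩
    refine (ConcreteCategory.congr_hom (G.map_comp _ _) y).trans ?_
    show G.map (cokernel.π (shiftMap F s n)) (G.map (shiftMap F r n) y) = 0
    rw [← hz]
    refine (ConcreteCategory.congr_hom (G.map_comp _ _).symm z).trans ?_
    rw [cokernel.condition, Functor.map_zero]
    rfl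
  choose r hr using key
  refine ⟨S.sup r, fun s hs => hS _ _ (hF _) ((Groth.Agent.S6646.result Λ X).1 _ _ _ (hF _) (hF _)).2 _ fun x hx => ?_⟩
  have hle : r x ≤ S.sup r := Finset.le_sup hx
  refine (congrArg (fun q => (EtModW.stalk Λ (GrothLib.EtSite.gpt x)).map (q ≫ cokernel.π (shiftMap F s n)))
    (GrothLib.ARSys.tr_tr F (show n ≤ n + r x by omega) (show n + r x ≤ n + S.sup r by omega)).symm).trans ?_
  refine (congrArg (EtModW.stalk Λ (GrothLib.EtSite.gpt x)).map (Category.assoc _ _ _)).trans ?_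
  rw [Functor.map_comp]
  exact (congrArg _ (hr x s (hle.trans hs))).trans comp_zero

/-- An exact functor turns this bound into the Mittag-Leffler condition. -/
theorem isML_map {C : Type u₁} [Category.{v} C] [Abelian C] {D : Type u₂} [Category.{v'} D] [Abelian D]
    (G : C ⥤ D) [G.Additive] [PreservesFiniteColimits G] {F : PS C}
    (h : ∀ n : ℕ, ∃ r : ℕ, ∀ s : ℕ, r ≤ s → shiftMap F r n ≫ cokernel.π (shiftMap F s n) = 0) :
    IsML (F ⋙ G) := by
  intro n
  obtain ⟨r, hr⟩ := h n
  refine ⟨r, fun s hs => GrothLib.ARSys.imageSubobject_eq_of_comp_zero _ _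
    (tr (F ⋙ G) (show n + r ≤ n + s by omega)) (GrothLib.ARSys.tr_tr (F ⋙ G) _ _) ?_⟩
  show G.map (shiftMap F r n) ≫ cokernel.π (G.map (shiftMap F s n)) = 0
  rw [← PreservesCokernel.π_iso_hom, ← Category.assoc, ← Functor.map_comp, hr s hs, Functor.map_zero, zero_comp]

end GrothLib.ModConstr
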